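import Cfsg.Agent.Hall4.Defs

/-!
S4221, piece D: Wielandt's order formula (landed as `Lead.WielandtC.wielandt_formula`) for a
pair of commuting involutions permuting a 4-tuple, acting on its pointwise stabilizer.
-/

set_option autoImplicit false
set_option linter.unusedSectionVars false
set_option linter.unusedVariables false

namespace Cfsg.Agent.Hall4

open Equiv
open Cfsg.Agent.Lead.WielandtB (cf mem_cf)

variable {α : Type*} [Fintype α] [DecidableEq α] {G : Subgroup (Perm α)} {h : ℕ}

/-- an element of `G` permuting the tuple normalizes its pointwise stabilizer. -/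
theorem act_mem_normalizer {t : Perm α} {y : Fin 4 ↪ α} {π : Perm (Fin 4)} (htG : t ∈ G)
    (hty : Act t y π) : t ∈ Subgroup.normalizer ((Hs G y : Subgroup (Perm α)) : Set (Perm α)) := by
  apply Subgroup.mem_normalizer_fintype
  intro k hk
  have hk' : k ∈ Hs G y := hk
  change t * k * t⁻¹ ∈ Hs G y
  refine ⟨G.mul_mem (G.mul_mem htG hk'.1) (G.inv_mem htG), fun i => ?_⟩
  have e : t⁻¹ (y i) = y (π⁻¹ i) := by
    rw [Perm.inv_eq_iff_eq, hty (π⁻¹ i)]
    simp
  rw [Perm.mul_apply, Perm.mul_apply, e, hk'.2, hty (π⁻¹ i)]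
  simp

theorem bw (S : Setup G h) (π π' : Perm (Fin 4)) (y : Fin 4 ↪ α) (z u : Perm α)
    (hz : z ∈ G) (hu : u ∈ G) (hz2 : z * z = 1) (hu2 : u * u = 1) (hc : z * u = u * z)
    (hzy : Act z y π) (huy : Act u y π') :
    h * Nat.card (cf (Hs G y) {z, u}) ^ 2 =
      Nat.card (cf (Hs G y) {z}) *
        (Nat.card (cf (Hs G y) {u}) * Nat.card (cf (Hs G y) {z * u})) := by
  have hyp : Cfsg.Agent.Lead.WielandtB.Hyp 2 z u (Hs G y) :=
    { comm := hc
      ha := by rw [pow_two, hz2]
      hb := by rw [pow_two, hu2]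
      haK := act_mem_normalizer hz hzy
      hbK := act_mem_normalizer hu huy
      cop := by rw [S.card y]; exact Nat.coprime_two_left.2 S.odd }
  have key := Cfsg.Agent.Lead.WielandtC.wielandt_formula Nat.prime_two z u (Hs G y) hyp
  unfold Cfsg.Agent.Lead.WielandtB.Formula at key
  rw [S.card y, Finset.prod_range_succ, Finset.prod_range_succ, Finset.prod_range_zero, one_mul,
    pow_zero, one_mul, pow_one] at key
  exact key

end Cfsg.Agent.Hall4
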