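import Cfsg.Agent.Hall4.Defs

/-!
S4221, piece A: the bridge from the hypotheses of the statement to `Setup`, the order of `G`,
the bound on `h`, existence of the commuting pair `(z, u)`, and the bound on fixed points of
involutions.
-/

set_option autoImplicit false
set_option linter.unusedSectionVars false
set_option linter.unusedVariables false

namespace Cfsg.Agent.Hall4

open Equiv

variable {α : Type*} [Fintype α] [DecidableEq α] {G : Subgroup (Perm α)} {h : ℕ}

/-- `Hs G y` is the image of the stabilizer of `y` in `↥G`. -/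
theorem h2b_Hs_eq_map (G : Subgroup (Perm α)) (y : Fin 4 ↪ α) :
    Hs G y = (MulAction.stabilizer G y).map G.subtype := by
  ext g
  constructor
  · rintro ⟨hg, hgy⟩
    refine ⟨⟨g, hg⟩, ?_, rfl⟩
    rw [SetLike.mem_coe, MulAction.mem_stabilizer_iff]
    ext i
    exact hgy i
  · rintro ⟨⟨k, hk⟩, hks, rfl⟩
    rw [SetLike.mem_coe, MulAction.mem_stabilizer_iff] at hks
    refine ⟨hk, fun i => ?_⟩
    exact congrArg (fun e : Fin 4 ↪ α => e i) hks

theorem h2b_card_Hs (G : Subgroup (Perm α)) (y : Fin 4 ↪ α) :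
    Nat.card (Hs G y) = Nat.card (MulAction.stabilizer G y) := by
  rw [h2b_Hs_eq_map, Subgroup.card_map_of_injective G.subtype_injective]

/-- conjugate tuples have conjugate stabilizers. -/
theorem h2b_Hs_map_le {y y' : Fin 4 ↪ α} {g : Perm α} (hg : g ∈ G)
    (hgy : ∀ i, g (y i) = y' i) :
    (Hs G y).map (MulAut.conj g).toMonoidHom ≤ Hs G y' := by
  rintro _ ⟨k, hk, rfl⟩
  have hk' : k ∈ Hs G y := hk
  change g * k * g⁻¹ ∈ Hs G y'
  refine ⟨G.mul_mem (G.mul_mem hg hk'.1) (G.inv_mem hg), fun i => ?_⟩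
  have e : g⁻¹ (g (y i)) = y i := by simp
  rw [Perm.mul_apply, Perm.mul_apply, ← hgy i, e, hk'.2 i]

theorem h2b_card_Hs_conj {y y' : Fin 4 ↪ α} {g : Perm α} (hg : g ∈ G)
    (hgy : ∀ i, g (y i) = y' i) : Nat.card (Hs G y') = Nat.card (Hs G y) := by
  apply le_antisymm
  · have hgy' : ∀ i, g⁻¹ (y' i) = y i := fun i => by rw [Perm.inv_eq_iff_eq, hgy i]
    have := Subgroup.card_le_of_le (h2b_Hs_map_le (G := G) (G.inv_mem hg) hgy')
    rwa [Subgroup.card_map_of_injective (MulAut.conj g⁻¹).injective] at this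
  · have := Subgroup.card_le_of_le (h2b_Hs_map_le (G := G) hg hgy)
    rwa [Subgroup.card_map_of_injective (MulAut.conj g).injective] at this

theorem setup_of_hyp (G : Subgroup (Perm α)) (hG : MulAction.IsMultiplyPretransitive G α 4)
    (x : Fin 4 ↪ α) (hodd : Odd (Nat.card (MulAction.stabilizer G x))) :
    Setup G (Nat.card (MulAction.stabilizer G x)) := by
  have := hG
  have htrans : ∀ y y' : Fin 4 ↪ α, ∃ g ∈ G, ∀ i, g (y i) = y' i := by
    intro y y'
    obtain ⟨g, hg⟩ := MulAction.exists_smul_eq G y y'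
    refine ⟨g.1, g.2, fun i => ?_⟩
    exact congrArg (fun e : Fin 4 ↪ α => e i) hg
  refine ⟨htrans, ?_, hodd⟩
  intro y
  obtain ⟨g, hg, hgy⟩ := htrans x y
  rw [h2b_card_Hs_conj hg hgy, h2b_card_Hs]

/-- orbit-stabilizer for a subgroup of `Perm α` transitive on 4-tuples. -/
theorem h2b_card_of_trans (K : Subgroup (Perm α))
    (htrans : ∀ y y' : Fin 4 ↪ α, ∃ g ∈ K, ∀ i, g (y i) = y' i) (x : Fin 4 ↪ α) :
    Nat.card K = (Fintype.card α).descFactorial 4 * Nat.card (Hs K x) := by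
  have h1 := (MulAction.stabilizer K x).index_mul_card
  have huniv : ∀ s : Set (Fin 4 ↪ α), s = Set.univ →
      s.ncard = (Fintype.card α).descFactorial 4 := by
    rintro s rfl
    rw [Set.ncard_univ, Nat.card_eq_fintype_card, Fintype.card_embedding_eq, Fintype.card_fin]
  have h2 : (MulAction.stabilizer K x).index = (Fintype.card α).descFactorial 4 := by
    rw [MulAction.index_stabilizer]
    apply huniv
    ext y'
    simp only [Set.mem_univ, iff_true]
    obtain ⟨g, hg, hgy⟩ := htrans x y'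
    refine ⟨⟨g, hg⟩, ?_⟩
    ext i
    exact hgy i
  rw [h2] at h1
  rw [h2b_card_Hs, ← h1]

theorem card_G (S : Setup G h) (x : Fin 4 ↪ α) :
    Nat.card G = (Fintype.card α).descFactorial 4 * h := by
  rw [h2b_card_of_trans G S.trans x, S.card x]

theorem h_dvd (S : Setup G h) (x : Fin 4 ↪ α) : h ∣ (Fintype.card α - 4).factorial := by
  have hn4 : 4 ≤ Fintype.card α := by
    have := Fintype.card_le_of_embedding x
    simpa using this
  have htop : ∀ y y' : Fin 4 ↪ α, ∃ g ∈ (⊤ : Subgroup (Perm α)), ∀ i, g (y i) = y' i := by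
    intro y y'
    have := Equiv.Perm.isMultiplyPretransitive α 4
    obtain ⟨g, hg⟩ := MulAction.exists_smul_eq (Perm α) y y'
    exact ⟨g, Subgroup.mem_top g, fun i => congrArg (fun e : Fin 4 ↪ α => e i) hg⟩
  have h1 := h2b_card_of_trans (⊤ : Subgroup (Perm α)) htop x
  rw [Subgroup.card_top, Nat.card_eq_fintype_card, Fintype.card_perm,
    ← Nat.factorial_mul_descFactorial hn4, mul_comm] at h1
  have hpos : 0 < (Fintype.card α).descFactorial 4 := by
    rw [Nat.descFactorial_pos]; exact hn4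
  have h2 : (Fintype.card α - 4).factorial = Nat.card (Hs (⊤ : Subgroup (Perm α)) x) :=
    Nat.eq_of_mul_eq_mul_left hpos h1
  have hle : Hs G x ≤ Hs (⊤ : Subgroup (Perm α)) x := fun g hg => ⟨Subgroup.mem_top g, hg.2⟩
  rw [h2, ← S.card x]
  exact Subgroup.card_dvd_of_le hle

/-- powers act by powers. -/
theorem h2b_act_pow {g : Perm α} {y : Fin 4 ↪ α} {π : Perm (Fin 4)} (hg : Act g y π) (k : ℕ) :
    Act (g ^ k) y (π ^ k) := by
  induction k with
  | zero => intro i; simp
  | succ k ih =>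
    intro i
    rw [pow_succ, pow_succ, Perm.mul_apply, hg i, ih (π i), Perm.mul_apply]

theorem h2b_act_mul {g g' : Perm α} {y : Fin 4 ↪ α} {π π' : Perm (Fin 4)} (hg : Act g y π)
    (hg' : Act g' y π') : Act (g * g') y (π * π') := by
  intro i
  rw [Perm.mul_apply, hg' i, hg (π' i), Perm.mul_apply]

theorem h2b_pow_odd {X : Type*} [Monoid X] {a : X} (ha : a * a = 1) {k : ℕ} (hk : Odd k) :
    a ^ k = a := by
  obtain ⟨m, rfl⟩ := hk
  rw [pow_succ, pow_mul, pow_two, ha, one_pow, one_mul]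

theorem h2b_pow_h (S : Setup G h) (y : Fin 4 ↪ α) {g : Perm α} (hg : g ∈ Hs G y) :
    g ^ h = 1 := by
  have : (⟨g, hg⟩ : Hs G y) ^ Nat.card (Hs G y) = 1 := pow_card_eq_one'
  rw [S.card y] at this
  exact congrArg Subtype.val this

/-- an involution of `G` acting as the involution `π` on `y`. -/
theorem h2b_exists_inv (S : Setup G h) (y : Fin 4 ↪ α) (π : Perm (Fin 4)) (hπ : π * π = 1) :
    ∃ t ∈ G, t * t = 1 ∧ Act t y π := by
  obtain ⟨g, hg, hgy⟩ := S.trans y (relabel y π)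
  have hact : Act g y π := hgy
  have hg2 : g * g ∈ Hs G y := by
    refine ⟨G.mul_mem hg hg, fun i => ?_⟩
    have := h2b_act_mul hact hact i
    rw [hπ] at this
    exact this
  refine ⟨g ^ h, G.pow_mem hg h, ?_, ?_⟩
  · rw [← pow_add, ← two_mul, pow_mul, pow_two]
    exact h2b_pow_h S y hg2
  · have := h2b_act_pow hact h
    rwa [h2b_pow_odd hπ S.odd] at this

theorem exists_pair (S : Setup G h) (x : Fin 4 ↪ α) :
    ∃ z u : Perm α, z ∈ G ∧ u ∈ G ∧ z * z = 1 ∧ u * u = 1 ∧ z * u = u * z ∧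
      Act z x π1 ∧ Act u x π2 := by
  obtain ⟨u, hu, hu2, hux⟩ := h2b_exists_inv S x π2 (by decide)
  obtain ⟨u', hu', hu2', hux'⟩ := h2b_exists_inv S x (swap 2 3) (by decide)
  -- the product acts as `(01)(23)`
  obtain ⟨w, hwdef⟩ : ∃ w, w = u * u' := ⟨_, rfl⟩
  have hwG : w ∈ G := hwdef ▸ G.mul_mem hu hu'
  have hwx : Act w x π1 := by
    have := h2b_act_mul hux hux'
    have e : π2 * swap 2 3 = π1 := by decide
    rw [e] at this
    exact hwdef ▸ this
  have hπ1 : π1 * π1 = 1 := by decide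
  have hw2 : w * w ∈ Hs G x := by
    refine ⟨G.mul_mem hwG hwG, fun i => ?_⟩
    have := h2b_act_mul hwx hwx i
    rw [hπ1] at this
    exact this
  have hui : u⁻¹ = u := inv_eq_of_mul_eq_one_right hu2
  have hui' : u'⁻¹ = u' := inv_eq_of_mul_eq_one_right hu2'
  have hconj : u * w * u⁻¹ = w⁻¹ := by
    rw [hwdef, mul_inv_rev, hui, hui', ← mul_assoc u u u', hu2, one_mul]
  refine ⟨w ^ h, u, G.pow_mem hwG h, hu, ?_, hu2, ?_, ?_, hux⟩
  · rw [← pow_add, ← two_mul, pow_mul, pow_two]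
    exact h2b_pow_h S x hw2
  · have hz2 : w ^ h * w ^ h = 1 := by
      rw [← pow_add, ← two_mul, pow_mul, pow_two]
      exact h2b_pow_h S x hw2
    have hzi : (w ^ h)⁻¹ = w ^ h := inv_eq_of_mul_eq_one_right hz2
    have h1 : u * w ^ h * u⁻¹ = w ^ h := by
      rw [← conj_pow, hconj, inv_pow, hzi]
    rw [mul_inv_eq_iff_eq_mul] at h1
    exact h1.symm
  · have := h2b_act_pow hwx h
    rwa [h2b_pow_odd hπ1 S.odd] at this

theorem fx_le_three (S : Setup G h) (t : Perm α) (htG : t ∈ G) (ht : t * t = 1) (ht1 : t ≠ 1) :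
    (fx t).card ≤ 3 := by
  by_contra hcon
  push Not at hcon
  obtain ⟨e⟩ : Nonempty (Fin 4 ↪ ↥(fx t)) := by
    apply Function.Embedding.nonempty_of_card_le
    rw [Fintype.card_fin, Fintype.card_coe]
    omega
  let y : Fin 4 ↪ α := e.trans (Function.Embedding.subtype _)
  have hy : ∀ i, t (y i) = y i := fun i => mem_fx.1 (e i).2
  have htH : t ∈ Hs G y := ⟨htG, hy⟩
  have h1 := h2b_pow_h S y htH
  rw [h2b_pow_odd ht S.odd] at h1
  exact ht1 h1

end Cfsg.Agent.Hall4
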