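import Cfsg.Agent.Hall4.Defs

/-!
S4221 (M. Hall): helper lemmas on 4-tuples (namespace `Hall4.Cnt`) used by `Hall4/Struct.lean`.
-/

set_option autoImplicit false
set_option linter.unusedSectionVars false
set_option linter.unusedVariables false

namespace Cfsg.Agent.Hall4

open Equiv

variable {α : Type*} [Fintype α] [DecidableEq α]

namespace Cnt

/-- The 4-tuple with the given four pairwise distinct entries. -/
def emb4 (a b c d : α) (hab : a ≠ b) (hac : a ≠ c) (had : a ≠ d) (hbc : b ≠ c) (hbd : b ≠ d)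
    (hcd : c ≠ d) : Fin 4 ↪ α :=
  ⟨![a, b, c, d], by
    intro i j hij
    fin_cases i <;> fin_cases j <;> simp_all⟩

@[simp] theorem emb4_zero (a b c d : α) (hab : a ≠ b) (hac : a ≠ c) (had : a ≠ d) (hbc : b ≠ c)
    (hbd : b ≠ d) (hcd : c ≠ d) : emb4 a b c d hab hac had hbc hbd hcd 0 = a := rfl

@[simp] theorem emb4_one (a b c d : α) (hab : a ≠ b) (hac : a ≠ c) (had : a ≠ d) (hbc : b ≠ c)
    (hbd : b ≠ d) (hcd : c ≠ d) : emb4 a b c d hab hac had hbc hbd hcd 1 = b := rfl

@[simp] theorem emb4_two (a b c d : α) (hab : a ≠ b) (hac : a ≠ c) (had : a ≠ d) (hbc : b ≠ c)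
    (hbd : b ≠ d) (hcd : c ≠ d) : emb4 a b c d hab hac had hbc hbd hcd 2 = c := rfl

@[simp] theorem emb4_three (a b c d : α) (hab : a ≠ b) (hac : a ≠ c) (had : a ≠ d) (hbc : b ≠ c)
    (hbd : b ≠ d) (hcd : c ≠ d) : emb4 a b c d hab hac had hbc hbd hcd 3 = d := rfl

/-- Two 4-tuples agreeing in all four entries are equal. -/
theorem emb4_ext {y y' : Fin 4 ↪ α} (h0 : y 0 = y' 0) (h1 : y 1 = y' 1) (h2 : y 2 = y' 2)
    (h3 : y 3 = y' 3) : y = y' := by
  ext i
  fin_cases i
  · exact h0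
  · exact h1
  · exact h2
  · exact h3

/-- The points moved by `t`. -/
def mvd (t : Perm α) : Finset α := Finset.univ.filter (fun p => t p ≠ p)

theorem mem_mvd {t : Perm α} {p : α} : p ∈ mvd t ↔ t p ≠ p := by simp [mvd]

theorem card_mvd (t : Perm α) : (mvd t).card = Fintype.card α - (fx t).card := by
  have h : mvd t = (fx t)ᶜ := by
    ext p
    simp [mvd, fx]
  rw [h, Finset.card_compl]

theorem inv_apply_self_of_sq {z : Perm α} (hz2 : z * z = 1) (p : α) : z (z p) = p := by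
  have := congrArg (fun t : Perm α => t p) hz2
  simpa using this

theorem act_π1_iff (z : Perm α) (y : Fin 4 ↪ α) :
    Act z y π1 ↔ z (y 0) = y 1 ∧ z (y 1) = y 0 ∧ z (y 2) = y 3 ∧ z (y 3) = y 2 := by
  have e0 : π1 0 = (1 : Fin 4) := by decide
  have e1 : π1 1 = (0 : Fin 4) := by decide
  have e2 : π1 2 = (3 : Fin 4) := by decide
  have e3 : π1 3 = (2 : Fin 4) := by decide
  constructor
  · intro h
    refine ⟨?_, ?_, ?_, ?_⟩
    · simpa [e0] using h 0
    · simpa [e1] using h 1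
    · simpa [e2] using h 2
    · simpa [e3] using h 3
  · rintro ⟨h0, h1, h2, h3⟩ i
    fin_cases i
    · simpa [e0] using h0
    · simpa [e1] using h1
    · simpa [e2] using h2
    · simpa [e3] using h3

theorem act_π2_iff (z : Perm α) (y : Fin 4 ↪ α) :
    Act z y π2 ↔ z (y 0) = y 1 ∧ z (y 1) = y 0 ∧ z (y 2) = y 2 ∧ z (y 3) = y 3 := by
  have e0 : π2 0 = (1 : Fin 4) := by decide
  have e1 : π2 1 = (0 : Fin 4) := by decide
  have e2 : π2 2 = (2 : Fin 4) := by decide
  have e3 : π2 3 = (3 : Fin 4) := by decide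
  constructor
  · intro h
    refine ⟨?_, ?_, ?_, ?_⟩
    · simpa [e0] using h 0
    · simpa [e1] using h 1
    · simpa [e2] using h 2
    · simpa [e3] using h 3
  · rintro ⟨h0, h1, h2, h3⟩ i
    fin_cases i
    · simpa [e0] using h0
    · simpa [e1] using h1
    · simpa [e2] using h2
    · simpa [e3] using h3

theorem act_π3_iff (z : Perm α) (y : Fin 4 ↪ α) :
    Act z y π3 ↔ z (y 0) = y 2 ∧ z (y 1) = y 3 ∧ z (y 2) = y 0 ∧ z (y 3) = y 1 := by
  have e0 : π3 0 = (2 : Fin 4) := by decide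
  have e1 : π3 1 = (3 : Fin 4) := by decide
  have e2 : π3 2 = (0 : Fin 4) := by decide
  have e3 : π3 3 = (1 : Fin 4) := by decide
  constructor
  · intro h
    refine ⟨?_, ?_, ?_, ?_⟩
    · simpa [e0] using h 0
    · simpa [e1] using h 1
    · simpa [e2] using h 2
    · simpa [e3] using h 3
  · rintro ⟨h0, h1, h2, h3⟩ i
    fin_cases i
    · simpa [e0] using h0
    · simpa [e1] using h1
    · simpa [e2] using h2
    · simpa [e3] using h3

theorem act_one_one (y : Fin 4 ↪ α) : Act (1 : Perm α) y 1 := fun _ => rfl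

theorem ne01 (y : Fin 4 ↪ α) : y 0 ≠ y 1 := fun e => by simpa using y.injective e
theorem ne02 (y : Fin 4 ↪ α) : y 0 ≠ y 2 := fun e => by simpa using y.injective e
theorem ne03 (y : Fin 4 ↪ α) : y 0 ≠ y 3 := fun e => by simpa using y.injective e
theorem ne12 (y : Fin 4 ↪ α) : y 1 ≠ y 2 := fun e => by simpa using y.injective e
theorem ne13 (y : Fin 4 ↪ α) : y 1 ≠ y 3 := fun e => by simpa using y.injective e
theorem ne23 (y : Fin 4 ↪ α) : y 2 ≠ y 3 := fun e => by simpa using y.injective e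

end Cnt

end Cfsg.Agent.Hall4
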