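import Cfsg.Agent.Hall4.Defs

/-!
S4221, piece B: the dihedral trick, conjugacy of pairs of commuting involutions of the same
type, invariance of the centralizer orders, and the orbit count for `C_G(z,u)`.
-/

set_option autoImplicit false
set_option linter.unusedSectionVars false
set_option linter.unusedVariables false

namespace Cfsg.Agent.Hall4

open Equiv
open Cfsg.Agent.Lead.WielandtB (cf mem_cf)

variable {α : Type*} [Fintype α] [DecidableEq α] {G : Subgroup (Perm α)} {h : ℕ}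

/-- The dihedral trick: two involutions whose product has odd order are conjugate by a power
of the product. -/
theorem dt {X : Type*} [Group X] (t t' : X) (ht : t * t = 1) (ht' : t' * t' = 1) (o : ℕ)
    (ho : Odd o) (hη : (t * t') ^ o = 1) :
    ∃ j : ℕ, ((t * t') ^ j)⁻¹ * t * (t * t') ^ j = t' := by
  obtain ⟨k, rfl⟩ := ho
  have hti : t⁻¹ = t := inv_eq_of_mul_eq_one_right ht
  have hti' : t'⁻¹ = t' := inv_eq_of_mul_eq_one_right ht'
  obtain ⟨η, hηdef⟩ : ∃ η, η = t * t' := ⟨_, rfl⟩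
  rw [← hηdef] at hη ⊢
  have h1 : t * η * t⁻¹ = η⁻¹ := by
    rw [hηdef, mul_inv_rev, hti, hti', ← mul_assoc t t t', ht, one_mul]
  have h2 : ∀ n : ℕ, t * η ^ n * t⁻¹ = (η ^ n)⁻¹ := fun n => by
    rw [← conj_pow, h1, inv_pow]
  refine ⟨k + 1, ?_⟩
  have h3 : t * η ^ (k + 1) = (η ^ (k + 1))⁻¹ * t := by
    have := h2 (k + 1)
    rw [mul_inv_eq_iff_eq_mul] at this
    exact this
  have h4 : η ^ (k + 1 + (k + 1)) = η := by
    have : k + 1 + (k + 1) = (2 * k + 1) + 1 := by ring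
    rw [this, pow_succ, hη, one_mul]
  rw [mul_assoc, h3, ← mul_assoc, ← mul_inv_rev, ← pow_add, h4, hηdef, mul_inv_rev, hti, hti',
    mul_assoc, ht, mul_one]

theorem inv_eq_self_of_sq {X : Type*} [Group X] {t : X} (ht : t * t = 1) : t⁻¹ = t :=
  inv_eq_of_mul_eq_one_right ht

/-- if an involution acts as `π` on a tuple then `π` is an involution. -/
theorem act_sq {t : Perm α} {y : Fin 4 ↪ α} {π : Perm (Fin 4)} (ht : t * t = 1)
    (hty : Act t y π) (i : Fin 4) : π (π i) = i := by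
  apply y.injective
  rw [← hty (π i), ← hty i, ← Perm.mul_apply, ht, Perm.one_apply]

/-- elements of `Hs G y` have order dividing `h`. -/
theorem pow_h_eq_one (S : Setup G h) (y : Fin 4 ↪ α) {g : Perm α} (hg : g ∈ Hs G y) :
    g ^ h = 1 := by
  have : (⟨g, hg⟩ : Hs G y) ^ Nat.card (Hs G y) = 1 := pow_card_eq_one'
  rw [S.card y] at this
  exact congrArg Subtype.val this

/-- the product of two involutions acting the same way lies in `Hs G y`. -/
theorem mul_mem_Hs {t t' : Perm α} {y : Fin 4 ↪ α} {π : Perm (Fin 4)} (htG : t ∈ G)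
    (htG' : t' ∈ G) (ht : t * t = 1) (hty : Act t y π) (hty' : Act t' y π) :
    t * t' ∈ Hs G y := by
  refine ⟨G.mul_mem htG htG', fun i => ?_⟩
  rw [Perm.mul_apply, hty' i, hty (π i), act_sq ht hty i]

theorem pow_mem_Hs {g : Perm α} {y : Fin 4 ↪ α} (hg : g ∈ Hs G y) (j : ℕ) : g ^ j ∈ Hs G y :=
  (Hs G y).pow_mem hg j

/-- conjugating by an element fixing the tuple does not change the action on the tuple. -/
theorem act_conj_of_mem_Hs {t ζ : Perm α} {y : Fin 4 ↪ α} {π : Perm (Fin 4)}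
    (hζ : ζ ∈ Hs G y) (hty : Act t y π) : Act (ζ⁻¹ * t * ζ) y π := by
  intro i
  rw [Perm.mul_apply, Perm.mul_apply, hζ.2 i, hty i, Perm.inv_eq_iff_eq, hζ.2 (π i)]

/-- two pairs of commuting involutions acting the same way on `y` are conjugate under
`Hs G y`. -/
theorem conj_pair (S : Setup G h) (π π' : Perm (Fin 4)) (y : Fin 4 ↪ α) (z u z' u' : Perm α)
    (hz : z ∈ G) (hu : u ∈ G) (hz' : z' ∈ G) (hu' : u' ∈ G)
    (hz2 : z * z = 1) (hu2 : u * u = 1) (hz2' : z' * z' = 1) (hu2' : u' * u' = 1)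
    (hc : z * u = u * z) (hc' : z' * u' = u' * z')
    (hzy : Act z y π) (huy : Act u y π') (hzy' : Act z' y π) (huy' : Act u' y π') :
    ∃ η ∈ Hs G y, η⁻¹ * z * η = z' ∧ η⁻¹ * u * η = u' := by
  -- first conjugate `z` to `z'`
  have hm1 : z * z' ∈ Hs G y := mul_mem_Hs hz hz' hz2 hzy hzy'
  obtain ⟨j, hj⟩ := dt z z' hz2 hz2' h S.odd (pow_h_eq_one S y hm1)
  obtain ⟨ζ, hζdef⟩ : ∃ ζ, ζ = (z * z') ^ j := ⟨_, rfl⟩
  rw [← hζdef] at hj
  have hζ : ζ ∈ Hs G y := hζdef ▸ pow_mem_Hs hm1 j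
  -- the conjugate of `u`
  obtain ⟨u2, hu2def⟩ : ∃ u2, u2 = ζ⁻¹ * u * ζ := ⟨_, rfl⟩
  have hu2G : u2 ∈ G := by
    rw [hu2def]
    exact G.mul_mem (G.mul_mem (G.inv_mem hζ.1) hu) hζ.1
  have hu22 : u2 * u2 = 1 := by
    rw [hu2def]
    calc ζ⁻¹ * u * ζ * (ζ⁻¹ * u * ζ) = ζ⁻¹ * (u * u) * ζ := by group
      _ = 1 := by rw [hu2]; group
  have hu2y : Act u2 y π' := hu2def ▸ act_conj_of_mem_Hs hζ huy
  have hcz : z' * u2 = u2 * z' := by
    rw [hu2def, ← hj]
    calc ζ⁻¹ * z * ζ * (ζ⁻¹ * u * ζ) = ζ⁻¹ * (z * u) * ζ := by group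
      _ = ζ⁻¹ * (u * z) * ζ := by rw [hc]
      _ = ζ⁻¹ * u * ζ * (ζ⁻¹ * z * ζ) := by group
  -- now conjugate `u2` to `u'` inside the centralizer of `z'`
  have hm2 : u2 * u' ∈ Hs G y := mul_mem_Hs hu2G hu' hu22 hu2y huy'
  obtain ⟨j2, hj2⟩ := dt u2 u' hu22 hu2' h S.odd (pow_h_eq_one S y hm2)
  obtain ⟨ζ2, hζ2def⟩ : ∃ ζ2, ζ2 = (u2 * u') ^ j2 := ⟨_, rfl⟩
  rw [← hζ2def] at hj2
  have hζ2 : ζ2 ∈ Hs G y := hζ2def ▸ pow_mem_Hs hm2 j2
  have hcomm : Commute z' ζ2 := by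
    rw [hζ2def]
    apply Commute.pow_right
    exact Commute.mul_right hcz hc'
  refine ⟨ζ * ζ2, (Hs G y).mul_mem hζ hζ2, ?_, ?_⟩
  · calc (ζ * ζ2)⁻¹ * z * (ζ * ζ2) = ζ2⁻¹ * (ζ⁻¹ * z * ζ) * ζ2 := by group
      _ = ζ2⁻¹ * z' * ζ2 := by rw [hj]
      _ = ζ2⁻¹ * (z' * ζ2) := by group
      _ = ζ2⁻¹ * (ζ2 * z') := by rw [hcomm.eq]
      _ = z' := by group
  · calc (ζ * ζ2)⁻¹ * u * (ζ * ζ2) = ζ2⁻¹ * (ζ⁻¹ * u * ζ) * ζ2 := by group
      _ = ζ2⁻¹ * u2 * ζ2 := by rw [hu2def]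
      _ = u' := hj2

/-- conjugation transports the action on tuples. -/
theorem act_conj {t g : Perm α} {y y' : Fin 4 ↪ α} {π : Perm (Fin 4)}
    (hg : ∀ i, g (y i) = y' i) (hty : Act t y π) : Act (g * t * g⁻¹) y' π := by
  intro i
  have e : g⁻¹ (g (y i)) = y i := by simp
  rw [Perm.mul_apply, Perm.mul_apply, ← hg i, e, hty i, hg (π i)]

/-- two pairs of commuting involutions of the same type are conjugate in `G`. -/
theorem conj_type (S : Setup G h) (π π' : Perm (Fin 4)) (y y' : Fin 4 ↪ α) (z u z' u' : Perm α)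
    (hz : z ∈ G) (hu : u ∈ G) (hz' : z' ∈ G) (hu' : u' ∈ G)
    (hz2 : z * z = 1) (hu2 : u * u = 1) (hz2' : z' * z' = 1) (hu2' : u' * u' = 1)
    (hc : z * u = u * z) (hc' : z' * u' = u' * z')
    (hzy : Act z y π) (huy : Act u y π') (hzy' : Act z' y' π) (huy' : Act u' y' π') :
    ∃ g ∈ G, (∀ i, g (y i) = y' i) ∧ g * z * g⁻¹ = z' ∧ g * u * g⁻¹ = u' := by
  obtain ⟨g0, hg0, hg0y⟩ := S.trans y y'
  have hconjmem : ∀ t ∈ G, g0 * t * g0⁻¹ ∈ G := fun t ht =>
    G.mul_mem (G.mul_mem hg0 ht) (G.inv_mem hg0)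
  have hconjsq : ∀ t : Perm α, t * t = 1 → (g0 * t * g0⁻¹) * (g0 * t * g0⁻¹) = 1 := by
    intro t ht
    calc (g0 * t * g0⁻¹) * (g0 * t * g0⁻¹) = g0 * (t * t) * g0⁻¹ := by group
      _ = 1 := by rw [ht]; group
  have hcc : (g0 * z * g0⁻¹) * (g0 * u * g0⁻¹) = (g0 * u * g0⁻¹) * (g0 * z * g0⁻¹) := by
    calc (g0 * z * g0⁻¹) * (g0 * u * g0⁻¹) = g0 * (z * u) * g0⁻¹ := by group
      _ = g0 * (u * z) * g0⁻¹ := by rw [hc]
      _ = _ := by group
  obtain ⟨η, hη, e1, e2⟩ := conj_pair S π π' y' (g0 * z * g0⁻¹) (g0 * u * g0⁻¹) z' u'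
    (hconjmem z hz) (hconjmem u hu) hz' hu' (hconjsq z hz2) (hconjsq u hu2) hz2' hu2' hcc hc'
    (act_conj hg0y hzy) (act_conj hg0y huy) hzy' huy'
  refine ⟨η⁻¹ * g0, G.mul_mem (G.inv_mem hη.1) hg0, fun i => ?_, ?_, ?_⟩
  · rw [Perm.mul_apply, hg0y i, Perm.inv_eq_iff_eq, hη.2 i]
  · rw [← e1]; group
  · rw [← e2]; group

/-- `Hs` does not see the labelling. -/
theorem Hs_relabel (G : Subgroup (Perm α)) (y : Fin 4 ↪ α) (σ : Perm (Fin 4)) :
    Hs G (relabel y σ) = Hs G y := by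
  ext g
  simp only [mem_Hs, relabel_apply]
  constructor
  · rintro ⟨hg, hgy⟩
    refine ⟨hg, fun i => ?_⟩
    have := hgy (σ⁻¹ i)
    simpa using this
  · rintro ⟨hg, hgy⟩
    exact ⟨hg, fun i => hgy (σ i)⟩

theorem act_relabel {t : Perm α} {y : Fin 4 ↪ α} {π σ : Perm (Fin 4)}
    (hty : Act t y (σ * π * σ⁻¹)) : Act t (relabel y σ) π := by
  intro i
  rw [relabel_apply, relabel_apply, hty (σ i)]
  simp

/-- one inclusion of the transport of centralizers. -/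
theorem cf_map_le {y y' : Fin 4 ↪ α} {z u z' u' g : Perm α} (hg : g ∈ G)
    (hgy : ∀ i, g (y i) = y' i) (hgz : g * z * g⁻¹ = z') (hgu : g * u * g⁻¹ = u') :
    (cf (Hs G y) {z, u}).map (MulAut.conj g).toMonoidHom ≤ cf (Hs G y') {z', u'} := by
  rintro _ ⟨k, hk, rfl⟩
  rw [SetLike.mem_coe, mem_cf] at hk
  obtain ⟨hkH, hkc⟩ := hk
  have hkz := hkc z (by simp)
  have hku := hkc u (by simp)
  change g * k * g⁻¹ ∈ _
  rw [mem_cf]
  refine ⟨⟨G.mul_mem (G.mul_mem hg hkH.1) (G.inv_mem hg), fun i => ?_⟩, ?_⟩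
  · have e : g⁻¹ (g (y i)) = y i := by simp
    rw [Perm.mul_apply, Perm.mul_apply, ← hgy i, e, hkH.2 i]
  · intro s hs
    rcases hs with rfl | rfl
    · rw [← hgz]
      calc g * z * g⁻¹ * (g * k * g⁻¹) = g * (z * k) * g⁻¹ := by group
        _ = g * (k * z) * g⁻¹ := by rw [hkz]
        _ = _ := by group
    · rw [← hgu]
      calc g * u * g⁻¹ * (g * k * g⁻¹) = g * (u * k) * g⁻¹ := by group
        _ = g * (k * u) * g⁻¹ := by rw [hku]
        _ = _ := by group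

theorem card_cf_conj {y y' : Fin 4 ↪ α} {z u z' u' g : Perm α} (hg : g ∈ G)
    (hgy : ∀ i, g (y i) = y' i) (hgz : g * z * g⁻¹ = z') (hgu : g * u * g⁻¹ = u') :
    Nat.card (cf (Hs G y') {z', u'}) = Nat.card (cf (Hs G y) {z, u}) := by
  apply le_antisymm
  · have hgy' : ∀ i, g⁻¹ (y' i) = y i := fun i => by rw [Perm.inv_eq_iff_eq, hgy i]
    have hgz' : g⁻¹ * z' * g⁻¹⁻¹ = z := by rw [← hgz]; group
    have hgu' : g⁻¹ * u' * g⁻¹⁻¹ = u := by rw [← hgu]; group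
    have := Subgroup.card_le_of_le (cf_map_le (G := G) (G.inv_mem hg) hgy' hgz' hgu')
    rwa [Subgroup.card_map_of_injective (MulAut.conj g⁻¹).injective] at this
  · have := Subgroup.card_le_of_le (cf_map_le (G := G) hg hgy hgz hgu)
    rwa [Subgroup.card_map_of_injective (MulAut.conj g).injective] at this

/-- the order of `C_{H_y}(z,u)` depends only on the type of `(y; z, u)` up to relabelling. -/
theorem card_cf_type (S : Setup G h) (π π' σ : Perm (Fin 4)) (y y' : Fin 4 ↪ α)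
    (z u z' u' : Perm α)
    (hz : z ∈ G) (hu : u ∈ G) (hz' : z' ∈ G) (hu' : u' ∈ G)
    (hz2 : z * z = 1) (hu2 : u * u = 1) (hz2' : z' * z' = 1) (hu2' : u' * u' = 1)
    (hc : z * u = u * z) (hc' : z' * u' = u' * z')
    (hzy : Act z y π) (huy : Act u y π')
    (hzy' : Act z' y' (σ * π * σ⁻¹)) (huy' : Act u' y' (σ * π' * σ⁻¹)) :
    Nat.card (cf (Hs G y') {z', u'}) = Nat.card (cf (Hs G y) {z, u}) := by
  obtain ⟨g, hg, hgy, hgz, hgu⟩ := conj_type S π π' y (relabel y' σ) z u z' u' hz hu hz' hu'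
    hz2 hu2 hz2' hu2' hc hc' hzy huy (act_relabel hzy') (act_relabel huy')
  have := card_cf_conj (G := G) hg hgy hgz hgu
  rwa [Hs_relabel] at this

theorem cf_pair_one (K : Subgroup (Perm α)) (z : Perm α) : cf K {z, 1} = cf K {z} := by
  ext g
  simp only [mem_cf, Set.mem_insert_iff, Set.mem_singleton_iff]
  constructor
  · rintro ⟨hg, hgc⟩
    exact ⟨hg, fun s hs => hgc s (Or.inl hs)⟩
  · rintro ⟨hg, hgc⟩
    refine ⟨hg, fun s hs => ?_⟩
    rcases hs with rfl | rfl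
    · exact hgc _ rfl
    · simp

/-- orbit-stabilizer for `C_G(z,u)` acting on the tuples of a given type. -/
theorem c_count (S : Setup G h) (π π' : Perm (Fin 4)) (z u : Perm α) (hz : z ∈ G) (hu : u ∈ G)
    (hz2 : z * z = 1) (hu2 : u * u = 1) (hc : z * u = u * z) (y : Fin 4 ↪ α)
    (hy : y ∈ Et π π' z u) :
    Nat.card (cf G {z, u}) = (Et π π' z u).card * Nat.card (cf (Hs G y) {z, u}) := by
  obtain ⟨hzy, huy⟩ := mem_Et.1 hy
  obtain ⟨C, hCdef⟩ : ∃ C : Subgroup (Perm α), C = cf G {z, u} := ⟨_, rfl⟩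
  rw [← hCdef]
  have hmemC : ∀ g : Perm α, g ∈ C ↔ g ∈ G ∧ z * g = g * z ∧ u * g = g * u := by
    intro g
    rw [hCdef, mem_cf]
    constructor
    · rintro ⟨hg, hgc⟩
      exact ⟨hg, hgc z (by simp), hgc u (by simp)⟩
    · rintro ⟨hg, h1, h2⟩
      refine ⟨hg, fun s hs => ?_⟩
      rcases hs with rfl | rfl
      · exact h1
      · exact h2
  -- the orbit of `y` under `C`
  have horb : (MulAction.stabilizer C y).index = (Et π π' z u).card := by
    rw [MulAction.index_stabilizer, ← Set.ncard_coe_finset]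
    congr 1
    ext y'
    rw [Finset.mem_coe, mem_Et]
    constructor
    · rintro ⟨⟨g, hgC⟩, rfl⟩
      obtain ⟨hgG, hgz, hgu⟩ := (hmemC g).1 hgC
      constructor
      · intro i
        change z (g (y i)) = g (y (π i))
        rw [← hzy i, ← Perm.mul_apply, hgz, Perm.mul_apply]
      · intro i
        change u (g (y i)) = g (y (π' i))
        rw [← huy i, ← Perm.mul_apply, hgu, Perm.mul_apply]
    · rintro ⟨hzy', huy'⟩
      obtain ⟨g, hg, hgy, hgz, hgu⟩ := conj_type S π π' y y' z u z u hz hu hz hu hz2 hu2 hz2 hu2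
        hc hc hzy huy hzy' huy'
      have hgC : g ∈ C := by
        rw [hmemC]
        refine ⟨hg, ?_, ?_⟩
        · have := hgz
          rw [mul_inv_eq_iff_eq_mul] at this
          exact this.symm
        · have := hgu
          rw [mul_inv_eq_iff_eq_mul] at this
          exact this.symm
      refine ⟨⟨g, hgC⟩, ?_⟩
      ext i
      exact hgy i
  -- the stabilizer of `y` in `C`
  have hstab : (MulAction.stabilizer C y).map C.subtype = cf (Hs G y) {z, u} := by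
    ext g
    constructor
    · rintro ⟨⟨k, hkC⟩, hk, rfl⟩
      obtain ⟨hkG, hkz, hku⟩ := (hmemC k).1 hkC
      rw [SetLike.mem_coe, MulAction.mem_stabilizer_iff] at hk
      change k ∈ _
      rw [mem_cf]
      refine ⟨⟨hkG, fun i => ?_⟩, fun s hs => ?_⟩
      · have := congrArg (fun e : Fin 4 ↪ α => e i) hk
        exact this
      · rcases hs with rfl | rfl
        · exact hkz
        · exact hku
    · intro hg
      rw [mem_cf] at hg
      obtain ⟨hgH, hgc⟩ := hg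
      have hgC : g ∈ C := (hmemC g).2 ⟨hgH.1, hgc z (by simp), hgc u (by simp)⟩
      refine ⟨⟨g, hgC⟩, ?_, rfl⟩
      rw [SetLike.mem_coe, MulAction.mem_stabilizer_iff]
      ext i
      exact hgH.2 i
  have h1 := (MulAction.stabilizer C y).index_mul_card
  rw [horb] at h1
  rw [← h1, ← hstab, Subgroup.card_map_of_injective C.subtype_injective]

end Cfsg.Agent.Hall4
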