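import Cfsg.Agent.Hall4.Defs

/-!
S4221 (M. Hall): pure counting of the 4-tuples on which an involution acts as `(01)(23)`
or as `(01)`.
-/

set_option autoImplicit false
set_option linter.unusedSectionVars false
set_option linter.unusedVariables false

namespace Cfsg.Agent.Hall4

open Equiv

variable {α : Type*} [Fintype α] [DecidableEq α]

/-- The moved points of a permutation. -/
def mvd (z : Perm α) : Finset α := Finset.univ.filter (fun p => z p ≠ p)

theorem mem_mvd {z : Perm α} {p : α} : p ∈ mvd z ↔ z p ≠ p := by simp [mvd]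

theorem mvd_eq_sdiff (z : Perm α) : mvd z = Finset.univ \ fx z := by
  ext p; simp [mvd, fx]

theorem card_mvd (z : Perm α) : (mvd z).card = Fintype.card α - (fx z).card := by
  rw [mvd_eq_sdiff, Finset.card_sdiff_of_subset (Finset.subset_univ _), Finset.card_univ]

theorem invol_apply {z : Perm α} (hz2 : z * z = 1) (p : α) : z (z p) = p := by
  have := congrArg (fun t : Perm α => t p) hz2
  simpa using this

theorem invol_mem_mvd {z : Perm α} (hz2 : z * z = 1) {p : α} (hp : p ∈ mvd z) : z p ∈ mvd z := by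
  rw [mem_mvd] at hp ⊢
  rw [invol_apply hz2]
  exact fun e => hp e.symm

/-- The embedding `Fin 4 ↪ α` with the four given distinct values. -/
def emb4 (a b c d : α) (hab : a ≠ b) (hac : a ≠ c) (had : a ≠ d) (hbc : b ≠ c) (hbd : b ≠ d)
    (hcd : c ≠ d) : Fin 4 ↪ α :=
  ⟨![a, b, c, d], by
    intro i j h
    fin_cases i <;> fin_cases j <;> simp_all⟩

@[simp] theorem emb4_zero (a b c d : α) (hab : a ≠ b) (hac : a ≠ c) (had : a ≠ d) (hbc : b ≠ c)
    (hbd : b ≠ d) (hcd : c ≠ d) : emb4 a b c d hab hac had hbc hbd hcd 0 = a := rfl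
@[simp] theorem emb4_one (a b c d : α) (hab : a ≠ b) (hac : a ≠ c) (had : a ≠ d) (hbc : b ≠ c)
    (hbd : b ≠ d) (hcd : c ≠ d) : emb4 a b c d hab hac had hbc hbd hcd 1 = b := rfl
@[simp] theorem emb4_two (a b c d : α) (hab : a ≠ b) (hac : a ≠ c) (had : a ≠ d) (hbc : b ≠ c)
    (hbd : b ≠ d) (hcd : c ≠ d) : emb4 a b c d hab hac had hbc hbd hcd 2 = c := rfl
@[simp] theorem emb4_three (a b c d : α) (hab : a ≠ b) (hac : a ≠ c) (had : a ≠ d) (hbc : b ≠ c)
    (hbd : b ≠ d) (hcd : c ≠ d) : emb4 a b c d hab hac had hbc hbd hcd 3 = d := rfl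

theorem emb_ext4 {y y' : Fin 4 ↪ α} (h0 : y 0 = y' 0) (h1 : y 1 = y' 1) (h2 : y 2 = y' 2)
    (h3 : y 3 = y' 3) : y = y' := by
  ext i
  fin_cases i
  · exact h0
  · exact h1
  · exact h2
  · exact h3

theorem pi1_vals : π1 0 = 1 ∧ π1 1 = 0 ∧ π1 2 = 3 ∧ π1 3 = 2 := by decide
theorem pi2_vals : π2 0 = 1 ∧ π2 1 = 0 ∧ π2 2 = 2 ∧ π2 3 = 3 := by decide

theorem act_pi1_iff {z : Perm α} {y : Fin 4 ↪ α} :
    Act z y π1 ↔ z (y 0) = y 1 ∧ z (y 1) = y 0 ∧ z (y 2) = y 3 ∧ z (y 3) = y 2 := by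
  obtain ⟨e0, e1, e2, e3⟩ := pi1_vals
  constructor
  · intro h
    refine ⟨?_, ?_, ?_, ?_⟩
    · rw [h 0, e0]
    · rw [h 1, e1]
    · rw [h 2, e2]
    · rw [h 3, e3]
  · rintro ⟨h0, h1, h2, h3⟩ i
    fin_cases i
    · show z (y 0) = y (π1 0); rw [e0, h0]
    · show z (y 1) = y (π1 1); rw [e1, h1]
    · show z (y 2) = y (π1 2); rw [e2, h2]
    · show z (y 3) = y (π1 3); rw [e3, h3]

theorem act_pi2_iff {z : Perm α} {y : Fin 4 ↪ α} :
    Act z y π2 ↔ z (y 0) = y 1 ∧ z (y 1) = y 0 ∧ z (y 2) = y 2 ∧ z (y 3) = y 3 := by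
  obtain ⟨e0, e1, e2, e3⟩ := pi2_vals
  constructor
  · intro h
    refine ⟨?_, ?_, ?_, ?_⟩
    · rw [h 0, e0]
    · rw [h 1, e1]
    · rw [h 2, e2]
    · rw [h 3, e3]
  · rintro ⟨h0, h1, h2, h3⟩ i
    fin_cases i
    · show z (y 0) = y (π2 0); rw [e0, h0]
    · show z (y 1) = y (π2 1); rw [e1, h1]
    · show z (y 2) = y (π2 2); rw [e2, h2]
    · show z (y 3) = y (π2 3); rw [e3, h3]

theorem act_one_one (y : Fin 4 ↪ α) : Act (1 : Perm α) y 1 := fun _ => rfl

theorem emb_ne {y : Fin 4 ↪ α} {i j : Fin 4} (h : i ≠ j) : y i ≠ y j :=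
  fun e => h (y.injective e)

/-- pure counting -/
theorem card_T1 (z : Perm α) (hz2 : z * z = 1) (f : ℕ) (hf : (fx z).card = f) :
    (Et π1 1 z 1).card = (Fintype.card α - f) * (Fintype.card α - f - 2) := by
  have hzz := invol_apply hz2
  set T : Finset (Σ _ : α, α) := (mvd z).sigma (fun a => ((mvd z).erase a).erase (z a)) with hTdef
  have hT : T.card = (Fintype.card α - f) * (Fintype.card α - f - 2) := by
    rw [hTdef, Finset.card_sigma]
    have : ∀ a ∈ mvd z, (((mvd z).erase a).erase (z a)).card = Fintype.card α - f - 2 := by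
      intro a ha
      have h1 : z a ∈ (mvd z).erase a := by
        rw [Finset.mem_erase]
        exact ⟨mem_mvd.1 ha, invol_mem_mvd hz2 ha⟩
      rw [Finset.card_erase_of_mem h1, Finset.card_erase_of_mem ha, card_mvd, hf]
      omega
    rw [Finset.sum_congr rfl this, Finset.sum_const, card_mvd, hf, smul_eq_mul]
  rw [← hT]
  refine Finset.card_bij (fun y _ => (⟨y 0, y 2⟩ : Σ _ : α, α)) ?_ ?_ ?_
  · intro y hy
    obtain ⟨h0, h1, h2, h3⟩ := act_pi1_iff.1 (mem_Et.1 hy).1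
    rw [hTdef, Finset.mem_sigma]
    refine ⟨?_, ?_⟩
    · show y 0 ∈ mvd z
      rw [mem_mvd, h0]; exact emb_ne (by decide)
    · show y 2 ∈ ((mvd z).erase (y 0)).erase (z (y 0))
      rw [Finset.mem_erase, Finset.mem_erase, mem_mvd, h0, h2]
      exact ⟨emb_ne (by decide), emb_ne (by decide), emb_ne (by decide)⟩
  · intro y hy y' hy' e
    obtain ⟨h0, h1, h2, h3⟩ := act_pi1_iff.1 (mem_Et.1 hy).1
    obtain ⟨h0', h1', h2', h3'⟩ := act_pi1_iff.1 (mem_Et.1 hy').1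
    have e0 : y 0 = y' 0 := congrArg Sigma.fst e
    have e2 : y 2 = y' 2 := eq_of_heq (Sigma.mk.inj e).2
    refine emb_ext4 e0 ?_ e2 ?_
    · rw [← h0, ← h0', e0]
    · rw [← h2, ← h2', e2]
  · rintro ⟨a, b⟩ hab
    rw [hTdef, Finset.mem_sigma] at hab
    obtain ⟨ha, hb⟩ := hab
    simp only [Finset.mem_erase] at hb
    obtain ⟨hbza, hba, hb⟩ := hb
    have ha' := mem_mvd.1 ha
    have hb' := mem_mvd.1 hb
    have hzbza : z b ≠ z a := fun e => hba (z.injective e)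
    have hzba : z b ≠ a := fun e => hbza (by rw [← e, hzz])
    refine ⟨emb4 a (z a) b (z b) (Ne.symm ha') (Ne.symm hba) (Ne.symm hzba) (Ne.symm hbza)
      (Ne.symm hzbza) (Ne.symm hb'), ?_, rfl⟩
    rw [mem_Et]
    refine ⟨act_pi1_iff.2 ?_, act_one_one _⟩
    simp only [emb4_zero, emb4_one, emb4_two, emb4_three, hzz, and_self]

/-- pure counting -/
theorem card_T2 (z : Perm α) (hz2 : z * z = 1) (f : ℕ) (hf : (fx z).card = f) :
    (Et π2 1 z 1).card = (Fintype.card α - f) * (f * (f - 1)) := by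
  have hzz := invol_apply hz2
  set T : Finset (Σ _ : α, Σ _ : α, α) :=
    (mvd z).sigma (fun _ => (fx z).sigma (fun b => (fx z).erase b)) with hTdef
  have hT : T.card = (Fintype.card α - f) * (f * (f - 1)) := by
    rw [hTdef, Finset.card_sigma]
    have h1 : ((fx z).sigma (fun b => (fx z).erase b)).card = f * (f - 1) := by
      rw [Finset.card_sigma]
      have : ∀ b ∈ fx z, ((fx z).erase b).card = f - 1 := by
        intro b hb
        rw [Finset.card_erase_of_mem hb, hf]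
      rw [Finset.sum_congr rfl this, Finset.sum_const, hf, smul_eq_mul]
    rw [Finset.sum_const, h1, card_mvd, hf, smul_eq_mul]
  rw [← hT]
  refine Finset.card_bij (fun y _ => (⟨y 0, ⟨y 2, y 3⟩⟩ : Σ _ : α, Σ _ : α, α)) ?_ ?_ ?_
  · intro y hy
    obtain ⟨h0, h1, h2, h3⟩ := act_pi2_iff.1 (mem_Et.1 hy).1
    rw [hTdef, Finset.mem_sigma]
    refine ⟨?_, ?_⟩
    · show y 0 ∈ mvd z
      rw [mem_mvd, h0]; exact emb_ne (by decide)
    · show (⟨y 2, y 3⟩ : Σ _ : α, α) ∈ (fx z).sigma (fun b => (fx z).erase b)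
      rw [Finset.mem_sigma]
      refine ⟨mem_fx.2 h2, ?_⟩
      show y 3 ∈ (fx z).erase (y 2)
      rw [Finset.mem_erase]
      exact ⟨emb_ne (by decide), mem_fx.2 h3⟩
  · intro y hy y' hy' e
    obtain ⟨h0, h1, h2, h3⟩ := act_pi2_iff.1 (mem_Et.1 hy).1
    obtain ⟨h0', h1', h2', h3'⟩ := act_pi2_iff.1 (mem_Et.1 hy').1
    have e0 : y 0 = y' 0 := congrArg Sigma.fst e
    have e' : (⟨y 2, y 3⟩ : Σ _ : α, α) = ⟨y' 2, y' 3⟩ := eq_of_heq (Sigma.mk.inj e).2
    have e2 : y 2 = y' 2 := congrArg Sigma.fst e'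
    have e3 : y 3 = y' 3 := eq_of_heq (Sigma.mk.inj e').2
    refine emb_ext4 e0 ?_ e2 e3
    rw [← h0, ← h0', e0]
  · rintro ⟨a, b, c⟩ habc
    rw [hTdef, Finset.mem_sigma] at habc
    obtain ⟨ha, hbc⟩ := habc
    rw [Finset.mem_sigma] at hbc
    obtain ⟨hb, hc⟩ := hbc
    simp only [Finset.mem_erase] at hc
    obtain ⟨hcb, hc⟩ := hc
    have ha' := mem_mvd.1 ha
    have hb' := mem_fx.1 hb
    have hc' := mem_fx.1 hc
    have hab : a ≠ b := fun e => ha' (e ▸ hb')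
    have hac : a ≠ c := fun e => ha' (e ▸ hc')
    have hzab : z a ≠ b := fun e => hab (by rw [← hzz a, e, hb'])
    have hzac : z a ≠ c := fun e => hac (by rw [← hzz a, e, hc'])
    refine ⟨emb4 a (z a) b c (Ne.symm ha') hab hac hzab hzac (Ne.symm hcb), ?_, rfl⟩
    rw [mem_Et]
    refine ⟨act_pi2_iff.2 ?_, act_one_one _⟩
    simp only [emb4_zero, emb4_one, emb4_two, emb4_three, hzz, hb', hc', and_self]

end Cfsg.Agent.Hall4
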