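import Mathlib
import Cfsg.Agent.Lead.WielandtC

/-!
M. Hall's theorem on 4-transitive groups with a 4-point stabilizer of odd order (S4221):
definitions shared by all files of `Cfsg/Agent/Hall4/`.
-/

set_option autoImplicit false
set_option linter.unusedSectionVars false

namespace Cfsg.Agent.Hall4

open Equiv

variable {α : Type*} [Fintype α] [DecidableEq α]

/-- The pointwise stabilizer in `G` of the 4-tuple `y`, as a subgroup of `Perm α`. -/
def Hs (G : Subgroup (Perm α)) (y : Fin 4 ↪ α) : Subgroup (Perm α) where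
  carrier := {g | g ∈ G ∧ ∀ i, g (y i) = y i}
  mul_mem' := by
    rintro a b ⟨ha, ha'⟩ ⟨hb, hb'⟩
    exact ⟨G.mul_mem ha hb, fun i => by rw [Perm.mul_apply, hb', ha']⟩
  one_mem' := ⟨G.one_mem, fun _ => rfl⟩
  inv_mem' := by
    rintro a ⟨ha, ha'⟩
    exact ⟨G.inv_mem ha, fun i => by rw [Perm.inv_eq_iff_eq, ha']⟩

theorem mem_Hs {G : Subgroup (Perm α)} {y : Fin 4 ↪ α} {g : Perm α} :
    g ∈ Hs G y ↔ g ∈ G ∧ ∀ i, g (y i) = y i := Iff.rfl

theorem Hs_le (G : Subgroup (Perm α)) (y : Fin 4 ↪ α) : Hs G y ≤ G := fun _ h => h.1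

/-- The standing hypotheses: `G` is 4-transitive and every 4-point stabilizer has odd order `h`. -/
structure Setup (G : Subgroup (Perm α)) (h : ℕ) : Prop where
  trans : ∀ y y' : Fin 4 ↪ α, ∃ g ∈ G, ∀ i, g (y i) = y' i
  card : ∀ y : Fin 4 ↪ α, Nat.card (Hs G y) = h
  odd : Odd h

/-- `t` acts on the 4-tuple `y` as the permutation `π` of the indices. -/
def Act (t : Perm α) (y : Fin 4 ↪ α) (π : Perm (Fin 4)) : Prop := ∀ i, t (y i) = y (π i)

instance decAct (t : Perm α) (y : Fin 4 ↪ α) (π : Perm (Fin 4)) : Decidable (Act t y π) := by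
  unfold Act; infer_instance

/-- `(01)(23)`. -/
def π1 : Perm (Fin 4) := swap 0 1 * swap 2 3
/-- `(01)`. -/
def π2 : Perm (Fin 4) := swap 0 1
/-- `(02)(13)`. -/
def π3 : Perm (Fin 4) := swap 0 2 * swap 1 3

/-- The fixed points of a permutation. -/
def fx (t : Perm α) : Finset α := Finset.univ.filter (fun p => t p = p)

theorem mem_fx {t : Perm α} {p : α} : p ∈ fx t ↔ t p = p := by simp [fx]

/-- The 4-tuples on which `z` acts as `π` and `u` acts as `π'`. -/
noncomputable def Et (π π' : Perm (Fin 4)) (z u : Perm α) : Finset (Fin 4 ↪ α) :=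
  Finset.univ.filter (fun y => Act z y π ∧ Act u y π')

theorem mem_Et {π π' : Perm (Fin 4)} {z u : Perm α} {y : Fin 4 ↪ α} :
    y ∈ Et π π' z u ↔ Act z y π ∧ Act u y π' := by simp [Et]

/-- The tuple `y` relabelled by `σ`. -/
def relabel (y : Fin 4 ↪ α) (σ : Perm (Fin 4)) : Fin 4 ↪ α := σ.toEmbedding.trans y

@[simp] theorem relabel_apply (y : Fin 4 ↪ α) (σ : Perm (Fin 4)) (i : Fin 4) :
    relabel y σ i = y (σ i) := rfl

/-- The tuple `g • y`. -/
def mv (g : Perm α) (y : Fin 4 ↪ α) : Fin 4 ↪ α := y.trans g.toEmbedding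

@[simp] theorem mv_apply (g : Perm α) (y : Fin 4 ↪ α) (i : Fin 4) : mv g y i = g (y i) := rfl

end Cfsg.Agent.Hall4
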