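import Cfsg.Agent.Hall4.Conj
import Cfsg.Agent.Hall4.Basic

/-!
S4221, piece C3: for degree at least 7 all involutions of `G` are conjugate, so they all have
the same number `f ∈ {2, 3}` of fixed points.
-/

set_option autoImplicit false
set_option linter.unusedSectionVars false
set_option linter.unusedVariables false

namespace Cfsg.Agent.Hall4

open Equiv
open Cfsg.Agent.Lead.WielandtB (cf mem_cf)

variable {α : Type*} [Fintype α] [DecidableEq α] {G : Subgroup (Perm α)} {h : ℕ}

/-- the 4-tuple with the given distinct entries. -/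
def h2fTuple (a b c d : α) (hab : a ≠ b) (hac : a ≠ c) (had : a ≠ d) (hbc : b ≠ c) (hbd : b ≠ d)
    (hcd : c ≠ d) : Fin 4 ↪ α where
  toFun := ![a, b, c, d]
  inj' := by
    intro i j hij
    fin_cases i <;> fin_cases j <;> simp_all

theorem h2fTuple_apply (a b c d : α) (hab : a ≠ b) (hac : a ≠ c) (had : a ≠ d) (hbc : b ≠ c)
    (hbd : b ≠ d) (hcd : c ≠ d) :
    (h2fTuple a b c d hab hac had hbc hbd hcd 0 = a) ∧
    (h2fTuple a b c d hab hac had hbc hbd hcd 1 = b) ∧
    (h2fTuple a b c d hab hac had hbc hbd hcd 2 = c) ∧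
    (h2fTuple a b c d hab hac had hbc hbd hcd 3 = d) := ⟨rfl, rfl, rfl, rfl⟩

/-- conjugation does not change the number of fixed points. -/
theorem card_fx_conj (g t : Perm α) : (fx (g * t * g⁻¹)).card = (fx t).card := by
  have : fx (g * t * g⁻¹) = (fx t).map g.toEmbedding := by
    ext p
    rw [mem_fx, Finset.mem_map]
    constructor
    · intro hp
      refine ⟨g⁻¹ p, ?_, by simp⟩
      rw [mem_fx]
      have := congrArg (fun q => g⁻¹ q) hp
      simpa using this
    · rintro ⟨q, hq, rfl⟩
      rw [mem_fx] at hq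
      simp [hq]
  rw [this, Finset.card_map]

/-- an involution with at least four moved points acts as `(01)(23)` on some tuple. -/
theorem exists_tuple_π1 (t : Perm α) (ht : t * t = 1) (hcard : (fx t).card + 4 ≤ Fintype.card α) :
    ∃ y : Fin 4 ↪ α, Act t y π1 := by
  have htt : ∀ p, t (t p) = p := fun p => by rw [← Perm.mul_apply, ht, Perm.one_apply]
  -- a first moved point
  have h1 : ((Finset.univ : Finset α) \ fx t).card ≥ 4 := by
    rw [Finset.card_sdiff_of_subset (Finset.subset_univ _), Finset.card_univ]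
    omega
  obtain ⟨p, hp⟩ : ((Finset.univ : Finset α) \ fx t).Nonempty := by
    rw [← Finset.card_pos]; omega
  have hp' : t p ≠ p := by
    rw [Finset.mem_sdiff, mem_fx] at hp
    exact hp.2
  -- a second moved point outside the first 2-cycle
  have h2 : (((Finset.univ : Finset α) \ fx t) \ {p, t p}).card ≥ 2 := by
    have := Finset.le_card_sdiff ({p, t p} : Finset α) ((Finset.univ : Finset α) \ fx t)
    have h3 : ({p, t p} : Finset α).card ≤ 2 := Finset.card_le_two
    omega
  obtain ⟨q, hq⟩ : (((Finset.univ : Finset α) \ fx t) \ {p, t p}).Nonempty := by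
    rw [← Finset.card_pos]; omega
  rw [Finset.mem_sdiff, Finset.mem_sdiff, mem_fx, Finset.mem_insert, Finset.mem_singleton] at hq
  obtain ⟨⟨-, hq'⟩, hqp⟩ := hq
  push Not at hqp
  obtain ⟨hqp1, hqp2⟩ := hqp
  have hab : p ≠ t p := fun e => hp' e.symm
  have hac : p ≠ q := fun e => hqp1 e.symm
  have had : p ≠ t q := fun e => hqp2 (by rw [e, htt])
  have hbc : t p ≠ q := fun e => hqp2 e.symm
  have hbd : t p ≠ t q := fun e => hac (t.injective e)
  have hcd : q ≠ t q := fun e => hq' e.symm
  refine ⟨h2fTuple p (t p) q (t q) hab hac had hbc hbd hcd, ?_⟩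
  intro i
  fin_cases i
  · change t p = _
    have e : π1 (0 : Fin 4) = 1 := by decide
    simp only [Fin.zero_eta, e]
    rfl
  · change t (t p) = _
    have e : π1 (1 : Fin 4) = 0 := by decide
    simp only [Fin.mk_one, e, htt]
    rfl
  · change t q = _
    have e : π1 (2 : Fin 4) = 3 := by decide
    simp only [Fin.reduceFinMk, e]
    rfl
  · change t (t q) = _
    have e : π1 (3 : Fin 4) = 2 := by decide
    simp only [Fin.reduceFinMk, e, htt]
    rfl

theorem exists_f (S : Setup G h) (hn : 7 ≤ Fintype.card α) :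
    ∃ f, (f = 2 ∨ f = 3) ∧ ∀ t ∈ G, t * t = 1 → t ≠ 1 → (fx t).card = f := by
  obtain ⟨x⟩ : Nonempty (Fin 4 ↪ α) := by
    apply Function.Embedding.nonempty_of_card_le
    simp only [Fintype.card_fin]
    omega
  obtain ⟨z, u, hz, hu, hz2, hu2, hc, hzx, hux⟩ := exists_pair S x
  -- every involution is conjugate to `z`
  have hall : ∀ t ∈ G, t * t = 1 → t ≠ 1 → (fx t).card = (fx z).card := by
    intro t htG ht ht1
    have h3 := fx_le_three S t htG ht ht1
    obtain ⟨y, hty⟩ := exists_tuple_π1 t ht (by omega)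
    obtain ⟨g, hg, -, hgt, -⟩ := conj_type S π1 1 y x t 1 z 1 htG G.one_mem hz G.one_mem ht
      (one_mul 1) hz2 (one_mul 1) (by simp) (by simp) hty (fun _ => rfl) hzx (fun _ => rfl)
    rw [← hgt, card_fx_conj]
  have hx01 : x 0 ≠ x 1 := fun e => by simpa using x.injective e
  have hx23 : x 2 ≠ x 3 := fun e => by simpa using x.injective e
  have hu1 : u ≠ 1 := by
    rintro rfl
    have h0 := hux 0
    have e : π2 0 = (1 : Fin 4) := by decide
    rw [e, Perm.one_apply] at h0
    exact hx01 h0
  have hfu := hall u hu hu2 hu1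
  refine ⟨(fx z).card, ?_, hall⟩
  have hle : (fx u).card ≤ 3 := fx_le_three S u hu hu2 hu1
  have hge : 2 ≤ (fx u).card := by
    have hsub : ({x 2, x 3} : Finset α) ⊆ fx u := by
      intro p hp
      rw [Finset.mem_insert, Finset.mem_singleton] at hp
      rw [mem_fx]
      rcases hp with rfl | rfl
      · have := hux 2
        have e : π2 2 = (2 : Fin 4) := by decide
        rwa [e] at this
      · have := hux 3
        have e : π2 3 = (3 : Fin 4) := by decide
        rwa [e] at this
    have := Finset.card_le_card hsub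
    rwa [Finset.card_pair hx23] at this
  omega

end Cfsg.Agent.Hall4
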