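import Cfsg.Agent.Hall4.Count

/-!
S4221 (M. Hall): the orbit structure of a four-group `⟨z, u⟩` of involutions with at most three
fixed points each, one of which acts as a transposition on a 4-tuple.
-/

set_option autoImplicit false
set_option linter.unusedSectionVars false
set_option linter.unusedVariables false

namespace Cfsg.Agent.Hall4

open Equiv

variable {α : Type*} [Fintype α] [DecidableEq α]

theorem pi3_vals : π3 0 = 2 ∧ π3 1 = 3 ∧ π3 2 = 0 ∧ π3 3 = 1 := by decide

theorem act_pi3_iff {u : Perm α} {y : Fin 4 ↪ α} :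
    Act u y π3 ↔ u (y 0) = y 2 ∧ u (y 1) = y 3 ∧ u (y 2) = y 0 ∧ u (y 3) = y 1 := by
  obtain ⟨e0, e1, e2, e3⟩ := pi3_vals
  constructor
  · intro h
    refine ⟨?_, ?_, ?_, ?_⟩
    · rw [h 0, e0]
    · rw [h 1, e1]
    · rw [h 2, e2]
    · rw [h 3, e3]
  · rintro ⟨h0, h1, h2, h3⟩ i
    fin_cases i
    · show u (y 0) = y (π3 0); rw [e0, h0]
    · show u (y 1) = y (π3 1); rw [e1, h1]
    · show u (y 2) = y (π3 2); rw [e2, h2]
    · show u (y 3) = y (π3 3); rw [e3, h3]

theorem pi1_ne : ∀ i : Fin 4, π1 i ≠ i := by decide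
theorem pi3_ne : ∀ i : Fin 4, π3 i ≠ i := by decide
theorem pi13_ne : ∀ i : Fin 4, (π1 * π3) i ≠ i := by decide

theorem comm_apply {z u : Perm α} (hc : z * u = u * z) (p : α) : z (u p) = u (z p) := by
  have := congrArg (fun t : Perm α => t p) hc
  simpa using this

section fixed

variable {z u : Perm α}

theorem fxv_of_fxz_fxu {p : α} (h1 : z p = p) (h2 : u p = p) : (z * u) p = p := by
  rw [Perm.mul_apply, h2, h1]

theorem fxu_of_fxz_fxv (hzz : ∀ p, z (z p) = p) {p : α} (h1 : z p = p) (h3 : (z * u) p = p) :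
    u p = p := by
  rw [Perm.mul_apply] at h3
  have h4 := congrArg z h3
  rw [hzz] at h4
  rw [h4, h1]

theorem fxz_of_fxu_fxv {p : α} (h2 : u p = p) (h3 : (z * u) p = p) : z p = p := by
  rw [Perm.mul_apply, h2] at h3
  exact h3

end fixed

/-- The structure of the fixed point sets. -/
theorem struct_facts (z u : Perm α) (hz2 : z * z = 1) (hu2 : u * u = 1) (hc : z * u = u * z)
    (f : ℕ) (hf3 : f ≤ 3) (hfz : (fx z).card = f) (hfu : (fx u).card = f)
    (hfv : (fx (z * u)).card = f) (x : Fin 4 ↪ α) (hx : x ∈ Et π1 π2 z u) :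
    (fx u \ fx z).card = 2 ∧ (fx z ∩ fx u).card + 2 = f ∧ (fx z \ fx u).card = 2 ∧
      (fx (z * u) \ fx z).card = 2 ∧ (fx z ∪ fx u ∪ fx (z * u)).card = f + 4 := by
  have hzz := invol_apply hz2
  have huu := invol_apply hu2
  have hcc := comm_apply hc
  obtain ⟨hzx, hux⟩ := mem_Et.1 hx
  obtain ⟨z0, z1, z2, z3⟩ := act_pi1_iff.1 hzx
  obtain ⟨u0, u1, u2, u3⟩ := act_pi2_iff.1 hux
  have hx23 : x 2 ≠ x 3 := emb_ne (by decide)
  -- `fx u \ fx z = {x 2, x 3}`
  have hS1 : fx u \ fx z = {x 2, x 3} := by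
    apply Finset.Subset.antisymm
    · intro q hq
      rw [Finset.mem_sdiff, mem_fx, mem_fx] at hq
      obtain ⟨hq1, hq2⟩ := hq
      by_contra hne
      rw [Finset.mem_insert, Finset.mem_singleton, not_or] at hne
      obtain ⟨hn2, hn3⟩ := hne
      have hzq_u : u (z q) = z q := by rw [← hcc, hq1]
      have hzq2 : z q ≠ x 2 := fun e => hn3 (by rw [← hzz q, e, z2])
      have hzq3 : z q ≠ x 3 := fun e => hn2 (by rw [← hzz q, e, z3])
      have hsub : ({x 2, x 3, q, z q} : Finset α) ⊆ fx u := by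
        intro r hr
        simp only [Finset.mem_insert, Finset.mem_singleton] at hr
        rcases hr with rfl | rfl | rfl | rfl
        · exact mem_fx.2 u2
        · exact mem_fx.2 u3
        · exact mem_fx.2 hq1
        · exact mem_fx.2 hzq_u
      have hcard : ({x 2, x 3, q, z q} : Finset α).card = 4 := by
        rw [Finset.card_insert_of_notMem, Finset.card_insert_of_notMem,
          Finset.card_insert_of_notMem, Finset.card_singleton]
        · simp only [Finset.mem_singleton]; exact fun e => hq2 e.symm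
        · simp only [Finset.mem_insert, Finset.mem_singleton, not_or]
          exact ⟨Ne.symm hn3, Ne.symm hzq3⟩
        · simp only [Finset.mem_insert, Finset.mem_singleton, not_or]
          exact ⟨hx23, Ne.symm hn2, Ne.symm hzq2⟩
      have := Finset.card_le_card hsub
      omega
    · intro q hq
      rw [Finset.mem_insert, Finset.mem_singleton] at hq
      rw [Finset.mem_sdiff, mem_fx, mem_fx]
      rcases hq with rfl | rfl
      · exact ⟨u2, by rw [z2]; exact Ne.symm hx23⟩
      · exact ⟨u3, by rw [z3]; exact hx23⟩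
  have hc1 : (fx u \ fx z).card = 2 := by
    rw [hS1, Finset.card_insert_of_notMem (by simp [hx23]), Finset.card_singleton]
  -- `|F0| + 2 = f`
  have hF0 : (fx z ∩ fx u).card + 2 = f := by
    have := Finset.card_sdiff_add_card_inter (fx u) (fx z)
    rw [hc1, hfu, Finset.inter_comm] at this
    omega
  have hc2 : (fx z \ fx u).card = 2 := by
    have := Finset.card_sdiff_add_card_inter (fx z) (fx u)
    rw [hfz] at this
    omega
  have hinter : fx (z * u) ∩ fx z = fx z ∩ fx u := by
    ext p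
    simp only [Finset.mem_inter, mem_fx]
    constructor
    · rintro ⟨h3, h1⟩
      exact ⟨h1, fxu_of_fxz_fxv hzz h1 h3⟩
    · rintro ⟨h1, h2⟩
      exact ⟨fxv_of_fxz_fxu h1 h2, h1⟩
  have hc3 : (fx (z * u) \ fx z).card = 2 := by
    have := Finset.card_sdiff_add_card_inter (fx (z * u)) (fx z)
    rw [hfv, hinter] at this
    omega
  refine ⟨hc1, hF0, hc2, hc3, ?_⟩
  -- the union
  have hU : fx z ∪ fx u ∪ fx (z * u) = fx z ∪ ((fx u \ fx z) ∪ (fx (z * u) \ fx z)) := by
    ext p
    simp only [Finset.mem_union, Finset.mem_sdiff]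
    tauto
  have hd1 : Disjoint (fx u \ fx z) (fx (z * u) \ fx z) := by
    rw [Finset.disjoint_left]
    intro p hp hp'
    rw [Finset.mem_sdiff, mem_fx, mem_fx] at hp hp'
    exact hp.2 (fxz_of_fxu_fxv hp.1 hp'.1)
  have hd2 : Disjoint (fx z) ((fx u \ fx z) ∪ (fx (z * u) \ fx z)) := by
    rw [Finset.disjoint_left]
    intro p hp hp'
    rw [Finset.mem_union, Finset.mem_sdiff, Finset.mem_sdiff] at hp'
    rcases hp' with h | h
    · exact h.2 hp
    · exact h.2 hp
  rw [hU, Finset.card_union_of_disjoint hd2, Finset.card_union_of_disjoint hd1, hfz, hc1, hc3]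

theorem not_fx_of_act {t : Perm α} {y : Fin 4 ↪ α} {π : Perm (Fin 4)} (h : Act t y π) {i : Fin 4}
    (hi : π i ≠ i) : y i ∉ fx t := by
  rw [mem_fx, h i]
  exact emb_ne hi

/-- pure permutation combinatorics -/
theorem card_E (z u : Perm α) (hz2 : z * z = 1) (hu2 : u * u = 1) (hc : z * u = u * z) (f : ℕ)
    (hf3 : f ≤ 3) (hfz : (fx z).card = f) (hfu : (fx u).card = f) (hfv : (fx (z * u)).card = f)
    (x : Fin 4 ↪ α) (hx : x ∈ Et π1 π2 z u) :
    (Et π1 π2 z u).card = 4 ∧ (Et π1 π3 z u).card + f + 4 = Fintype.card α := by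
  have hzz := invol_apply hz2
  have huu := invol_apply hu2
  have hcc := comm_apply hc
  obtain ⟨hc1, hF0, hc2, hc3, hN⟩ := struct_facts z u hz2 hu2 hc f hf3 hfz hfu hfv x hx
  constructor
  · -- `E'`
    have hT : ((fx (z * u) \ fx z) ×ˢ (fx u \ fx z)).card = 4 := by
      rw [Finset.card_product, hc3, hc1]
    refine Eq.trans ?_ hT
    refine Finset.card_bij (fun y _ => ((y 0, y 2) : α × α)) ?_ ?_ ?_
    · intro y hy
      obtain ⟨hzy, huy⟩ := mem_Et.1 hy
      obtain ⟨z0, z1, z2, z3⟩ := act_pi1_iff.1 hzy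
      obtain ⟨u0, u1, u2, u3⟩ := act_pi2_iff.1 huy
      rw [Finset.mem_product, Finset.mem_sdiff, Finset.mem_sdiff, mem_fx, mem_fx, mem_fx, mem_fx]
      refine ⟨⟨?_, ?_⟩, u2, ?_⟩
      · show (z * u) (y 0) = y 0
        rw [Perm.mul_apply, u0, z1]
      · show ¬ z (y 0) = y 0
        rw [z0]; exact emb_ne (by decide)
      · show ¬ z (y 2) = y 2
        rw [z2]; exact emb_ne (by decide)
    · intro y hy y' hy' e
      obtain ⟨z0, z1, z2, z3⟩ := act_pi1_iff.1 (mem_Et.1 hy).1
      obtain ⟨z0', z1', z2', z3'⟩ := act_pi1_iff.1 (mem_Et.1 hy').1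
      have e0 : y 0 = y' 0 := congrArg Prod.fst e
      have e2 : y 2 = y' 2 := congrArg Prod.snd e
      refine emb_ext4 e0 ?_ e2 ?_
      · rw [← z0, ← z0', e0]
      · rw [← z2, ← z2', e2]
    · rintro ⟨a, b⟩ hab
      rw [Finset.mem_product, Finset.mem_sdiff, Finset.mem_sdiff, mem_fx, mem_fx, mem_fx,
        mem_fx] at hab
      obtain ⟨⟨ha3, ha1⟩, hb2, hb1⟩ := hab
      change (z * u) a = a at ha3
      change ¬ z a = a at ha1
      change u b = b at hb2
      change ¬ z b = b at hb1
      have hzb_u : u (z b) = z b := by rw [← hcc, hb2]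
      have hzua : z (u a) = a := ha3
      have hab : a ≠ b := fun e => ha1 (fxz_of_fxu_fxv (e ▸ hb2) ha3)
      have hazb : a ≠ z b := fun e => ha1 (fxz_of_fxu_fxv (e ▸ hzb_u) ha3)
      have hzab : z a ≠ b := fun e => hazb (by rw [← e, hzz])
      have hzazb : z a ≠ z b := fun e => hab (z.injective e)
      have hua : u a = z a := by
        have h4 := congrArg z ha3
        rw [Perm.mul_apply, hzz] at h4
        exact h4
      refine ⟨emb4 a (z a) b (z b) (Ne.symm ha1) hab hazb hzab hzazb (Ne.symm hb1), ?_, rfl⟩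
      rw [mem_Et]
      refine ⟨act_pi1_iff.2 ?_, act_pi2_iff.2 ?_⟩
      · simp only [emb4_zero, emb4_one, emb4_two, emb4_three, hzz, and_self]
      · simp only [emb4_zero, emb4_one, emb4_two, emb4_three]
        refine ⟨hua, ?_, hb2, hzb_u⟩
        rw [← hcc, hua, hzz]
  · -- `E`
    set N := fx z ∪ fx u ∪ fx (z * u) with hNdef
    have hR : (Finset.univ \ N).card + f + 4 = Fintype.card α := by
      have := Finset.card_sdiff_add_card_eq_card (Finset.subset_univ N)
      rw [Finset.card_univ, hN] at this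
      omega
    rw [← hR]
    congr 2
    refine Finset.card_bij (fun y _ => y 0) ?_ ?_ ?_
    · intro y hy
      obtain ⟨hzy, huy⟩ := mem_Et.1 hy
      have hvy : Act (z * u) y (π1 * π3) := by
        intro i
        rw [Perm.mul_apply, huy i, hzy (π3 i), Perm.mul_apply]
      rw [Finset.mem_sdiff, hNdef, Finset.mem_union, Finset.mem_union]
      refine ⟨Finset.mem_univ _, ?_⟩
      rintro ((h | h) | h)
      · exact not_fx_of_act hzy (by decide) h
      · exact not_fx_of_act huy (by decide) h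
      · exact not_fx_of_act hvy (by decide) h
    · intro y hy y' hy' e
      obtain ⟨z0, z1, z2, z3⟩ := act_pi1_iff.1 (mem_Et.1 hy).1
      obtain ⟨z0', z1', z2', z3'⟩ := act_pi1_iff.1 (mem_Et.1 hy').1
      obtain ⟨u0, u1, u2, u3⟩ := act_pi3_iff.1 (mem_Et.1 hy).2
      obtain ⟨u0', u1', u2', u3'⟩ := act_pi3_iff.1 (mem_Et.1 hy').2
      have e0 : y 0 = y' 0 := e
      have e2 : y 2 = y' 2 := by rw [← u0, ← u0', e0]
      refine emb_ext4 e0 ?_ e2 ?_
      · rw [← z0, ← z0', e0]
      · rw [← z2, ← z2', e2]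
    · intro p hp
      rw [Finset.mem_sdiff, hNdef, Finset.mem_union, Finset.mem_union, not_or, not_or, mem_fx,
        mem_fx, mem_fx] at hp
      obtain ⟨-, ⟨hp1, hp2⟩, hp3⟩ := hp
      rw [Perm.mul_apply] at hp3
      have h12 : z p ≠ u p := by
        intro e
        apply hp3
        rw [← e, hzz]
      have h13 : z p ≠ z (u p) := fun e => hp2 (z.injective e).symm
      have h23 : u p ≠ z (u p) := by
        intro e
        apply hp1
        have : u (z p) = u p := by rw [← hcc]; exact e.symm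
        exact u.injective this
      refine ⟨emb4 p (z p) (u p) (z (u p)) (Ne.symm hp1) (Ne.symm hp2) (Ne.symm hp3) h12 h13 h23,
        ?_, rfl⟩
      rw [mem_Et]
      refine ⟨act_pi1_iff.2 ?_, act_pi3_iff.2 ?_⟩
      · simp only [emb4_zero, emb4_one, emb4_two, emb4_three, hzz, and_self]
      · simp only [emb4_zero, emb4_one, emb4_two, emb4_three, huu, true_and]
        refine ⟨(hcc p).symm, ?_⟩
        rw [← hcc, huu]

/-- A permutation of odd order fixes pointwise every invariant set with at most two points. -/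
theorem fix_of_small {g : Perm α} {o : ℕ} (ho : Odd o) (hgo : g ^ o = 1) (S : Finset α)
    (hS : ∀ p ∈ S, g p ∈ S) (hcard : S.card ≤ 2) : ∀ p ∈ S, g p = p := by
  intro p hp
  by_contra hne
  have h1 : g p ∈ S := hS p hp
  have h2 : g (g p) ∈ S := hS _ h1
  have h21 : g (g p) ≠ g p := fun e => hne (g.injective e)
  have h20 : g (g p) = p := by
    by_contra h20
    have hsub : ({p, g p, g (g p)} : Finset α) ⊆ S := by
      intro r hr
      simp only [Finset.mem_insert, Finset.mem_singleton] at hr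
      rcases hr with rfl | rfl | rfl
      · exact hp
      · exact h1
      · exact h2
    have hc3 : ({p, g p, g (g p)} : Finset α).card = 3 := by
      rw [Finset.card_insert_of_notMem, Finset.card_insert_of_notMem, Finset.card_singleton]
      · simp only [Finset.mem_singleton]; exact Ne.symm h21
      · simp only [Finset.mem_insert, Finset.mem_singleton, not_or]
        exact ⟨Ne.symm hne, Ne.symm h20⟩
    have := Finset.card_le_card hsub
    omega
  obtain ⟨k, rfl⟩ := ho
  have hsq : (g ^ 2) (g p) = g p := by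
    rw [pow_two, Perm.mul_apply, h20]
  have hk : ((g ^ 2) ^ k) (g p) = g p := Perm.pow_apply_eq_self_of_apply_eq_self hsq k
  have : (g ^ (2 * k + 1)) p = g p := by
    rw [pow_succ, pow_mul, Perm.mul_apply, hk]
  rw [hgo, Perm.one_apply] at this
  exact hne this.symm

/-- pure permutation combinatorics -/
theorem eq_one_of_eleven (z u : Perm α) (hz2 : z * z = 1) (hu2 : u * u = 1) (hc : z * u = u * z)
    (hfz : (fx z).card = 3) (hfu : (fx u).card = 3) (hfv : (fx (z * u)).card = 3)
    (hn : Fintype.card α = 11) (x : Fin 4 ↪ α) (hx : x ∈ Et π1 π2 z u)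
    (y : Fin 4 ↪ α) (hy : y ∈ Et π1 π3 z u)
    (g : Perm α) (o : ℕ) (ho : Odd o) (hgo : g ^ o = 1) (hgz : g * z = z * g)
    (hgu : g * u = u * g) (hgy : ∀ i, g (y i) = y i) : g = 1 := by
  have hzz := invol_apply hz2
  have huu := invol_apply hu2
  have hcc := comm_apply hc
  have hgz' := comm_apply hgz
  have hgu' := comm_apply hgu
  have hgv' : ∀ p, g ((z * u) p) = (z * u) (g p) := by
    intro p
    rw [Perm.mul_apply, Perm.mul_apply, hgz', hgu']
  obtain ⟨hc1, hF0, hc2, hc3, hN⟩ :=
    struct_facts z u hz2 hu2 hc 3 le_rfl hfz hfu hfv x hx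
  -- invariance of fixed point sets
  have inv_fx : ∀ t : Perm α, (∀ p, g (t p) = t (g p)) → ∀ p, p ∈ fx t ↔ g p ∈ fx t := by
    intro t ht p
    rw [mem_fx, mem_fx, ← ht]
    exact ⟨fun h => by rw [h], fun h => g.injective h⟩
  have iz := inv_fx z hgz'
  have iu := inv_fx u hgu'
  have iv := inv_fx (z * u) hgv'
  -- the four small invariant sets
  have k0 : ∀ p ∈ fx z ∩ fx u, g p = p := by
    refine fix_of_small ho hgo _ ?_ (by omega)
    intro p hp
    rw [Finset.mem_inter] at hp ⊢
    exact ⟨(iz p).1 hp.1, (iu p).1 hp.2⟩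
  have k1 : ∀ p ∈ fx z \ fx u, g p = p := by
    refine fix_of_small ho hgo _ ?_ (by omega)
    intro p hp
    rw [Finset.mem_sdiff] at hp ⊢
    exact ⟨(iz p).1 hp.1, fun h => hp.2 ((iu p).2 h)⟩
  have k2 : ∀ p ∈ fx u \ fx z, g p = p := by
    refine fix_of_small ho hgo _ ?_ (by omega)
    intro p hp
    rw [Finset.mem_sdiff] at hp ⊢
    exact ⟨(iu p).1 hp.1, fun h => hp.2 ((iz p).2 h)⟩
  have k3 : ∀ p ∈ fx (z * u) \ fx z, g p = p := by
    refine fix_of_small ho hgo _ ?_ (by omega)
    intro p hp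
    rw [Finset.mem_sdiff] at hp ⊢
    exact ⟨(iv p).1 hp.1, fun h => hp.2 ((iz p).2 h)⟩
  -- the regular points are the `y i`
  set N := fx z ∪ fx u ∪ fx (z * u) with hNdef
  obtain ⟨hzy, huy⟩ := mem_Et.1 hy
  have hvy : Act (z * u) y (π1 * π3) := by
    intro i
    rw [Perm.mul_apply, huy i, hzy (π3 i), Perm.mul_apply]
  have hRcard : (Finset.univ \ N).card = 4 := by
    have := Finset.card_sdiff_add_card_eq_card (Finset.subset_univ N)
    rw [Finset.card_univ, hN, hn] at this
    omega
  have himg : Finset.univ.image y = Finset.univ \ N := by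
    apply Finset.eq_of_subset_of_card_le
    · intro p hp
      rw [Finset.mem_image] at hp
      obtain ⟨i, -, rfl⟩ := hp
      rw [Finset.mem_sdiff, hNdef, Finset.mem_union, Finset.mem_union]
      refine ⟨Finset.mem_univ _, ?_⟩
      rintro ((h | h) | h)
      · exact not_fx_of_act hzy (pi1_ne i) h
      · exact not_fx_of_act huy (pi3_ne i) h
      · exact not_fx_of_act hvy (pi13_ne i) h
    · rw [hRcard, Finset.card_image_of_injective _ y.injective, Finset.card_univ, Fintype.card_fin]
  ext p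
  rw [Perm.one_apply]
  by_cases hpN : p ∈ N
  · rw [hNdef, Finset.mem_union, Finset.mem_union] at hpN
    rcases hpN with (h | h) | h
    · by_cases h' : p ∈ fx u
      · exact k0 p (Finset.mem_inter.2 ⟨h, h'⟩)
      · exact k1 p (Finset.mem_sdiff.2 ⟨h, h'⟩)
    · by_cases h' : p ∈ fx z
      · exact k0 p (Finset.mem_inter.2 ⟨h', h⟩)
      · exact k2 p (Finset.mem_sdiff.2 ⟨h, h'⟩)
    · by_cases h' : p ∈ fx z
      · have h2 : p ∈ fx u := mem_fx.2 (fxu_of_fxz_fxv hzz (mem_fx.1 h') (mem_fx.1 h))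
        exact k0 p (Finset.mem_inter.2 ⟨h', h2⟩)
      · exact k3 p (Finset.mem_sdiff.2 ⟨h, h'⟩)
  · have : p ∈ Finset.univ.image y := by
      rw [himg, Finset.mem_sdiff]
      exact ⟨Finset.mem_univ _, hpN⟩
    rw [Finset.mem_image] at this
    obtain ⟨i, -, rfl⟩ := this
    exact hgy i

end Cfsg.Agent.Hall4
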