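import Cfsg.Agent.Hall4.Conj
import Cfsg.Agent.Hall4.BW
import Cfsg.Agent.Hall4.Fix
import Cfsg.Agent.Hall4.Count
import Cfsg.Agent.Hall4.Struct

/-! S4221: assembly. -/

set_option autoImplicit false
set_option linter.unusedSectionVars false
set_option linter.unusedVariables false

namespace Cfsg.Agent.Hall4

open Equiv
open Cfsg.Agent.Lead.WielandtB (cf)

variable {α : Type*} [Fintype α] [DecidableEq α] {G : Subgroup (Perm α)} {h : ℕ}

theorem act_one (y : Fin 4 ↪ α) : Act (1 : Perm α) y 1 := fun _ => rfl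

theorem act_one' (y : Fin 4 ↪ α) (σ : Perm (Fin 4)) : Act (1 : Perm α) y (σ * 1 * σ⁻¹) := by
  intro i; simp

/-- single-involution version of `card_cf_type`. -/
theorem card_cf_type1 (S : Setup G h) (π σ : Perm (Fin 4)) (y y' : Fin 4 ↪ α) (z z' : Perm α)
    (hz : z ∈ G) (hz' : z' ∈ G) (hz2 : z * z = 1) (hz2' : z' * z' = 1)
    (hzy : Act z y π) (hzy' : Act z' y' (σ * π * σ⁻¹)) :
    Nat.card (cf (Hs G y') {z'}) = Nat.card (cf (Hs G y) {z}) := by
  have := card_cf_type S π 1 σ y y' z 1 z' 1 hz G.one_mem hz' G.one_mem hz2 (one_mul 1) hz2'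
    (one_mul 1) (by simp) (by simp) hzy (act_one y) hzy' (act_one' y' σ)
  rwa [cf_pair_one, cf_pair_one] at this

theorem arith_main (n f c0 cu cV cV' R hh : ℕ) (hf : f = 2 ∨ f = 3) (hn : 7 ≤ n)
    (hc0 : 0 < c0) (hcu : 0 < cu) (hcV : 0 < cV) (hcV' : 0 < cV') (hh0 : 0 < hh)
    (hR : R + f + 4 = n)
    (h1 : (n - f - 2) * c0 = f * (f - 1) * cu)
    (h2 : hh * cV' ^ 2 = c0 * (cu * cu))
    (h3 : hh * cV ^ 2 = c0 * (c0 * c0))
    (h4 : 4 * cV' = R * cV) : n = 11 ∧ f = 3 := by
  have h5 : cu * cV = c0 * cV' := by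
    have e1 : (cu * cV) ^ 2 * c0 = (c0 * cV') ^ 2 * c0 := by
      calc (cu * cV) ^ 2 * c0 = (c0 * (cu * cu)) * cV ^ 2 := by ring
        _ = hh * cV' ^ 2 * cV ^ 2 := by rw [h2]
        _ = (hh * cV ^ 2) * cV' ^ 2 := by ring
        _ = (c0 * (c0 * c0)) * cV' ^ 2 := by rw [h3]
        _ = (c0 * cV') ^ 2 * c0 := by ring
    have e2 : (cu * cV) ^ 2 = (c0 * cV') ^ 2 := Nat.eq_of_mul_eq_mul_right hc0 e1
    exact Nat.pow_left_injective (by norm_num : 2 ≠ 0) e2
  have h6 : 4 * cu = R * c0 := by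
    have e : (4 * cu) * cV = (R * c0) * cV := by
      calc (4 * cu) * cV = 4 * (cu * cV) := by ring
        _ = 4 * (c0 * cV') := by rw [h5]
        _ = (4 * cV') * c0 := by ring
        _ = (R * cV) * c0 := by rw [h4]
        _ = (R * c0) * cV := by ring
    exact Nat.eq_of_mul_eq_mul_right hcV e
  have h7 : 4 * (n - f - 2) = f * (f - 1) * R := by
    have e : (4 * (n - f - 2)) * c0 = (f * (f - 1) * R) * c0 := by
      calc (4 * (n - f - 2)) * c0 = 4 * ((n - f - 2) * c0) := by ring
        _ = 4 * (f * (f - 1) * cu) := by rw [h1]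
        _ = f * (f - 1) * (4 * cu) := by ring
        _ = f * (f - 1) * (R * c0) := by rw [h6]
        _ = (f * (f - 1) * R) * c0 := by ring
    exact Nat.eq_of_mul_eq_mul_right hc0 e
  rcases hf with rfl | rfl
  · exfalso; simp at h7; omega
  · refine ⟨?_, rfl⟩; simp at h7; omega

theorem cube_dvd_5040 (c : ℕ) (hodd : Odd c) (hd : c * (c * c) ∣ 5040) : c = 1 := by
  have hle : c * (c * c) ≤ 5040 := Nat.le_of_dvd (by norm_num) hd
  have hc : c ≤ 17 := by
    by_contra hc
    push Not at hc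
    have : 18 * (18 * 18) ≤ c * (c * c) := by
      have := Nat.mul_le_mul hc (Nat.mul_le_mul hc hc)
      simpa using this
    omega
  interval_cases c <;> first | rfl | (exfalso; revert hodd; decide) | (exfalso; revert hd; decide)

theorem card_cf_pos (K : Subgroup (Perm α)) (T : Set (Perm α)) : 0 < Nat.card (cf K T) :=
  Nat.card_pos

theorem exists_emb (hn : 4 ≤ Fintype.card α) : Nonempty (Fin 4 ↪ α) := by
  apply Function.Embedding.nonempty_of_card_le
  simpa using hn

theorem mul_mul_self_of_comm {z u : Perm α} (hz2 : z * z = 1) (hu2 : u * u = 1)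
    (hc : z * u = u * z) : (z * u) * (z * u) = 1 := by
  calc (z * u) * (z * u) = z * (u * z) * u := by group
    _ = z * (z * u) * u := by rw [hc]
    _ = (z * z) * (u * u) := by group
    _ = 1 := by rw [hz2, hu2, one_mul]

/-- the main dichotomy for degree at least 7. -/
theorem main_ge_seven (S : Setup G h) (hn : 7 ≤ Fintype.card α) :
    (Fintype.card α = 7 ∧ h = 3) ∨ (Fintype.card α = 11 ∧ h = 1) := by
  obtain ⟨x⟩ := exists_emb (α := α) (by omega)
  obtain ⟨z, u, hz, hu, hz2, hu2, hc, hzx, hux⟩ := exists_pair S x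
  obtain ⟨f, hf, hfall⟩ := exists_f S hn
  have hh0 : 0 < h := S.odd.pos
  -- the third involution
  have hv : z * u ∈ G := G.mul_mem hz hu
  have hv2 : (z * u) * (z * u) = 1 := mul_mul_self_of_comm hz2 hu2 hc
  have hx01 : x 0 ≠ x 1 := fun e => by simpa using x.injective e
  have hx23 : x 2 ≠ x 3 := fun e => by simpa using x.injective e
  have hz1 : z ≠ 1 := by
    rintro rfl
    have h0 := hzx 0
    have e : π1 0 = (1 : Fin 4) := by decide
    rw [e, Perm.one_apply] at h0
    exact hx01 h0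
  have hu1 : u ≠ 1 := by
    rintro rfl
    have h0 := hux 0
    have e : π2 0 = (1 : Fin 4) := by decide
    rw [e, Perm.one_apply] at h0
    exact hx01 h0
  have hvx : Act (z * u) x (π1 * π2) := by
    intro i
    rw [Perm.mul_apply, hux i, hzx (π2 i), Perm.mul_apply]
  have hv1 : z * u ≠ 1 := by
    intro e
    have := hvx 2
    rw [e] at this
    have h2 : (π1 * π2) 2 = (3 : Fin 4) := by decide
    rw [h2] at this
    exact hx23 this
  have hfz := hfall z hz hz2 hz1
  have hfu := hfall u hu hu2 hu1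
  have hfv := hfall _ hv hv2 hv1
  have hf3 : f ≤ 3 := by rcases hf with rfl | rfl <;> norm_num
  have hxE' : x ∈ Et π1 π2 z u := mem_Et.2 ⟨hzx, hux⟩
  obtain ⟨hE', hE⟩ := card_E z u hz2 hu2 hc f hf3 hfz hfu hfv x hxE'
  -- the centralizer orders
  set c0 := Nat.card (cf (Hs G x) {z}) with hc0
  set cu := Nat.card (cf (Hs G x) {u}) with hcu
  set cV' := Nat.card (cf (Hs G x) {z, u}) with hcV'
  have hc0pos : 0 < c0 := Nat.card_pos
  have hcupos : 0 < cu := Nat.card_pos
  have hcV'pos : 0 < cV' := Nat.card_pos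
  -- `C_H(zu)` has the same order as `C_H(u)`
  have hcv : Nat.card (cf (Hs G x) {z * u}) = cu := by
    refine card_cf_type1 S π2 π3 x x u (z * u) hu hv hu2 hv2 hux ?_
    have e : π3 * π2 * π3⁻¹ = π1 * π2 := by decide
    rw [e]; exact hvx
  -- Wielandt at `x`
  have hbw' : h * cV' ^ 2 = c0 * (cu * cu) := by
    have := bw S π1 π2 x z u hz hu hz2 hu2 hc hzx hux
    rwa [hcv] at this
  -- the relation (*) from the centralizer of `z`
  have hstar : (Fintype.card α - f - 2) * c0 = f * (f - 1) * cu := by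
    have hxT1 : x ∈ Et π1 1 z 1 := mem_Et.2 ⟨hzx, act_one x⟩
    have e1 := c_count S π1 1 z 1 hz G.one_mem hz2 (one_mul 1) (by simp) x hxT1
    rw [cf_pair_one, cf_pair_one, card_T1 z hz2 f hfz] at e1
    -- a tuple on which `z` acts as a transposition
    have hT2pos : 0 < (Et π2 1 z 1).card := by
      rw [card_T2 z hz2 f hfz]
      have : 0 < Fintype.card α - f := by omega
      rcases hf with rfl | rfl <;> positivity
    obtain ⟨x'', hx''⟩ := Finset.card_pos.1 hT2pos
    have e2 := c_count S π2 1 z 1 hz G.one_mem hz2 (one_mul 1) (by simp) x'' hx''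
    rw [cf_pair_one, cf_pair_one, card_T2 z hz2 f hfz] at e2
    have e3 : Nat.card (cf (Hs G x'') {z}) = cu :=
      card_cf_type1 S π2 1 x x'' u z hu hz hu2 hz2 hux (by simpa using (mem_Et.1 hx'').1)
    rw [e3] at e2
    rw [e1] at e2
    have hpos : 0 < Fintype.card α - f := by omega
    have : (Fintype.card α - f) * ((Fintype.card α - f - 2) * c0) =
        (Fintype.card α - f) * (f * (f - 1) * cu) := by
      calc _ = (Fintype.card α - f) * (Fintype.card α - f - 2) * c0 := by ring
        _ = (Fintype.card α - f) * (f * (f - 1)) * cu := e2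
        _ = _ := by ring
    exact Nat.eq_of_mul_eq_mul_left hpos this
  -- is there a regular point?
  rcases Nat.eq_zero_or_pos (Et π1 π3 z u).card with hR0 | hRpos
  · -- no: `n = f + 4 = 7`
    left
    have hn7 : Fintype.card α = 7 := by rcases hf with rfl | rfl <;> omega
    have hf3' : f = 3 := by omega
    subst hf3'
    refine ⟨hn7, ?_⟩
    rw [hn7] at hstar
    have h3 : c0 = 3 * cu := by omega
    have hc0h : c0 ∣ h := by
      rw [← S.card x]
      exact Subgroup.card_dvd_of_le (Cfsg.Agent.Lead.WielandtB.cf_le _ _)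
    have hdvd := h_dvd S x
    rw [hn7] at hdvd
    have h6 : h ∣ 6 := by simpa [Nat.factorial] using hdvd
    have hle : h ≤ 6 := Nat.le_of_dvd (by norm_num) h6
    have h3h : 3 ∣ h := Dvd.dvd.trans ⟨cu, h3⟩ hc0h
    have hodd := S.odd
    interval_cases h <;> first | rfl | (exfalso; revert hodd; decide) | (exfalso; revert h3h; decide)
  · -- yes
    right
    obtain ⟨y, hy⟩ := Finset.card_pos.1 hRpos
    obtain ⟨hzy, huy⟩ := mem_Et.1 hy
    set cV := Nat.card (cf (Hs G y) {z, u}) with hcV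
    have hcVpos : 0 < cV := Nat.card_pos
    have e1 : Nat.card (cf (Hs G y) {z}) = c0 :=
      card_cf_type1 S π1 1 x y z z hz hz hz2 hz2 hzx (by simpa using hzy)
    have e2 : Nat.card (cf (Hs G y) {u}) = c0 := by
      refine card_cf_type1 S π1 (swap 1 2) x y z u hz hu hz2 hu2 hzx ?_
      have e : (swap 1 2 : Perm (Fin 4)) * π1 * (swap 1 2)⁻¹ = π3 := by decide
      rw [e]; exact huy
    have hvy : Act (z * u) y (π1 * π3) := by
      intro i
      rw [Perm.mul_apply, huy i, hzy (π3 i), Perm.mul_apply]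
    have e3 : Nat.card (cf (Hs G y) {z * u}) = c0 := by
      refine card_cf_type1 S π1 (swap 1 3) x y z (z * u) hz hv hz2 hv2 hzx ?_
      have e : (swap 1 3 : Perm (Fin 4)) * π1 * (swap 1 3)⁻¹ = π1 * π3 := by decide
      rw [e]; exact hvy
    have hbw : h * cV ^ 2 = c0 * (c0 * c0) := by
      have := bw S π1 π3 y z u hz hu hz2 hu2 hc hzy huy
      rwa [e1, e2, e3] at this
    have hcnt : 4 * cV' = (Et π1 π3 z u).card * cV := by
      have a1 := c_count S π1 π2 z u hz hu hz2 hu2 hc x hxE'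
      have a2 := c_count S π1 π3 z u hz hu hz2 hu2 hc y hy
      rw [hE'] at a1
      rw [← a1, ← a2]
    obtain ⟨hn11, hf3'⟩ := arith_main (Fintype.card α) f c0 cu cV cV' (Et π1 π3 z u).card h hf hn
      hc0pos hcupos hcVpos hcV'pos hh0 hE hstar hbw' hbw hcnt
    subst hf3'
    refine ⟨hn11, ?_⟩
    -- `C_{H_y}(z,u) = 1`
    have hcV1 : cV = 1 := by
      have hbot : cf (Hs G y) {z, u} = ⊥ := by
        rw [eq_bot_iff]
        intro g hg
        rw [Cfsg.Agent.Lead.WielandtB.mem_cf] at hg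
        obtain ⟨hgH, hgc⟩ := hg
        have hgo : g ^ h = 1 := by
          have : (⟨g, hgH⟩ : Hs G y) ^ Nat.card (Hs G y) = 1 := pow_card_eq_one'
          rw [S.card y] at this
          exact congrArg Subtype.val this
        have := eq_one_of_eleven z u hz2 hu2 hc hfz hfu hfv hn11 x hxE' y hy g h S.odd hgo
          (hgc z (by simp)).symm (hgc u (by simp)).symm (mem_Hs.1 hgH).2
        exact Subgroup.mem_bot.2 this
      rw [hcV, hbot]
      simp
    rw [hcV1] at hbw
    have hh : h = c0 * (c0 * c0) := by simpa using hbw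
    have hdvd := h_dvd S x
    rw [hn11] at hdvd
    have h5040 : h ∣ 5040 := by simpa [Nat.factorial] using hdvd
    have hc0odd : Odd c0 := by
      have hc0h : c0 ∣ h := by
        rw [← S.card x]
        exact Subgroup.card_dvd_of_le (Cfsg.Agent.Lead.WielandtB.cf_le _ _)
      exact Odd.of_dvd_nat S.odd hc0h
    have := cube_dvd_5040 c0 hc0odd (hh ▸ h5040)
    rw [hh, this]

end Cfsg.Agent.Hall4
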